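import Groth.Agent.AlgSpDec.FieldBC
import Groth.Agent.AlgSpDec.CodimZero
import Groth.Agent.AlgSpDec.LimDescentRep
import Groth.Agent.AlgSpDec.PointsSpectral
import Groth.Agent.AlgSpDec.Fibres
import Groth.Agent.GrpSchLib.FieldDim
import Groth.Agent.S10200

/-!
# Points of codimension zero of separated spaces over a field
-/

set_option autoImplicit false
set_option backward.isDefEq.respectTransparency false
set_option backward.isDefEq.respectTransparency.types false

universe u

open CategoryTheory CategoryTheory.Limits AlgebraicGeometry AlgSp Order Groth.Agent.AlgSpLib Groth.Agent.AlgSpPts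
  Groth.Agent.AlgSpDec Groth.Agent.AlgSpDec.FieldBC

namespace Groth.Agent.GrpScheme13

theorem coheight_eq_zero_of_max {Y : Scheme.{u}} {x : Y} (h : ∀ y, y ⤳ x → y = x) : coheight x = 0 :=
  coheight_eq_zero.2 fun y hy => (h y (Scheme.le_iff_specializes.1 hy)).le

theorem coheight_eq_zero_of_flat {A B : Scheme.{u}} (f : A ⟶ B) [Flat f] {a : A} (ha : coheight a = 0) :
    coheight (f a) = 0 :=
  coheight_eq_zero_of_max fun y hy => by
    obtain ⟨a', ha', rfl⟩ := Flat.generalizingMap f hy
    rw [AlgSpDec.eq_of_specializes_of_coheight ha ha']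

theorem exists_max_specializes {Y : Scheme.{u}} (z : Y) : ∃ η : Y, η ⤳ z ∧ coheight η = 0 := by
  obtain ⟨Z, hZ, hxZ⟩ := exists_mem_irreducibleComponents_subset_of_isIrreducible {z} isIrreducible_singleton
  have hg := hZ.1.isGenericPoint_genericPoint_closure
  rw [(isClosed_of_mem_irreducibleComponents Z hZ).closure_eq] at hg
  refine ⟨hZ.1.genericPoint, hg.specializes (hxZ rfl), coheight_eq_zero_of_max fun y hy => ?_⟩
  have h1 : Z ⊆ closure {y} := by
    rw [← hg]
    exact closure_minimal (Set.singleton_subset_iff.2 hy.mem_closure) isClosed_closure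
  have h3 : hZ.1.genericPoint ⤳ y := hg.specializes (hZ.2 isIrreducible_singleton.closure h1 (subset_closure rfl))
  exact (hy.antisymm h3).eq

theorem isQuasiSeparatedSp_of_isSeparatedSp {S : Scheme.{u}} {X : Sp S} (h : IsSeparatedSp X) :
    IsQuasiSeparatedSp X :=
  repWith_mono (fun _ _ g (_ : IsClosedImmersion g) => (inferInstance : QuasiCompact g)) _ h

theorem eq_of_specializes_chart {S : Scheme.{u}} {X : Sp S} (hd : IsDecent X) {U : Over S}
    {a : (yon S).obj U ⟶ X} (ha : RepWith @Etale a) {u : ↥U.left} (hu : coheight u = 0) {z : Points X}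
    (hz : z ⤳ Points.ofPt a u) : z = Points.ofPt a u := by
  obtain ⟨u', hu', rfl⟩ := exists_specializes_lift_of_isDecent hd ha hz
  rw [AlgSpDec.eq_of_specializes_of_coheight hu hu']

theorem etale_of_openImm {S : Scheme.{u}} {F G : Sp S} {j : F ⟶ G} (hj : RepWith @IsOpenImmersion j) :
    RepWith @Etale j :=
  repWith_mono (fun _ _ g (_ : IsOpenImmersion g) => (inferInstance : Etale g)) _ hj

/-- A separated space has an open subscheme containing all points of codimension zero. -/
theorem exists_scheme_codimZero {S : Scheme.{u}} {X : Sp S} (hX : IsAlgSpace X) (hs : IsSeparatedSp X) :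
    ∃ (T : Over S) (j : (yon S).obj T ⟶ X), RepWith @IsOpenImmersion j ∧
      ∀ (U : Over S) (a : (yon S).obj U ⟶ X) (u : ↥U.left), RepWith @Etale a → coheight u = 0 →
        ∃ v : ↥T.left, Points.ofPt j v = Points.ofPt a u ∧ coheight v = 0 := by
  let X' : Space S := ⟨X, hX⟩
  obtain ⟨W, j, hj, hW, -, h0⟩ := Groth.Agent.S10200.result X' ⟨PUnit, fun _ => X', fun _ => 𝟙 X',
    ⟨fun _ => repWith_of_isIso _ (𝟙 X), fun x => ⟨⟨⟩, x, Points.map_id x⟩⟩,
    fun _ => isQuasiSeparatedSp_of_isSeparatedSp hs⟩
  obtain ⟨T, ⟨r⟩⟩ := hW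
  let e := isoOfRepresentableBy r
  refine ⟨T, e.hom ≫ j.hom, repWith_comp (repWith_of_isIso _ e.hom) hj, fun U a u ha hu => ?_⟩
  obtain ⟨w, hw⟩ := h0 (Points.ofPt a u) ⟨U, a, u, ha, rfl, by
    show ringKrullDim _ = 0
    rw [ringKrullDim_stalk_eq_coheight, hu]; rfl⟩
  obtain ⟨v, hv⟩ := (Points.schemeHomeo T).surjective (Points.map e.inv w)
  have hv' : Points.ofPt (e.hom ≫ j.hom) v = Points.ofPt a u := by
    rw [Points.ofPt_eq_map_ofScheme, show Points.ofScheme T v = Points.map e.inv w from hv, ← Points.map_comp,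
      e.inv_hom_id_assoc, hw]
  exact ⟨v, hv', (coheight_eq_of_charts (etale_of_openImm (repWith_comp (repWith_of_isIso _ e.hom) hj)) ha hv').trans hu⟩

variable {k : Type u} [Field k]

theorem repWith_affine_fst (X : Sp (base k)) (V : Over (base k)) [IsAffine V.left] :
    RepWith @IsAffineHom (prod.fst : X ⨯ (yon (base k)).obj V ⟶ X) := by
  have sq : IsPullback (prod.snd : X ⨯ (yon (base k)).obj V ⟶ _) prod.fst
      ((yon (base k)).map (Over.mkIdTerminal.from V)) ((isTerminalYon (base k)).from X) := by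
    have h := (IsPullback.of_is_product' (prodIsProd X ((yon (base k)).obj V)) (isTerminalYon (base k))).flip
    rw [(isTerminalYon (base k)).hom_ext ((yon (base k)).map (Over.mkIdTerminal.from V))
      ((isTerminalYon (base k)).from _)]
    exact h
  refine repWith_of_isPullback sq ((repWith_yon_map_iff _ _).2 ?_)
  have : IsAffine (Over.mk (𝟙 (base k))).left := inferInstanceAs (IsAffine (Spec _))
  exact isAffineHom_of_isAffine _

theorem isQuasiSeparatedSp_prod {X : Sp (base k)} (h : IsQuasiSeparatedSp X) (V : Over (base k))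
    [IsAffine V.left] : IsQuasiSeparatedSp (X ⨯ (yon (base k)).obj V) :=
  isQuasiSeparatedSp_of_affine _ (repWith_affine_fst X V) h

theorem isQuasiCompactSp_prod {X : Sp (base k)} (hX : IsAlgSpace X) (h : IsQuasiCompactSp X) (V : Over (base k))
    [IsAffine V.left] : IsQuasiCompactSp (X ⨯ (yon (base k)).obj V) :=
  isQuasiCompactSp_of_affine hX _ (repWith_affine_fst X V) h

theorem isDecent_prod {X : Sp (base k)} (hX : IsAlgSpace X) (h : IsQuasiSeparatedSp X) (V : Over (base k))
    [IsAffine V.left] : IsDecent (X ⨯ (yon (base k)).obj V) :=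
  isDecent_of_isQuasiSeparatedSp (isAlgSpace_prod hX (IsAlgSpace.yon_obj V)) (isQuasiSeparatedSp_prod h V)

end Groth.Agent.GrpScheme13
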