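import Groth.Agent.GrpScheme13.Mul
import Groth.Agent.GrpScheme13.Points
import Groth.Agent.AlgSpDec.FieldGal
import Groth.Agent.GrpSchLib.GeomIrr
import Groth.Agent.AlgSpDec.FreeQuotSep
import Mathlib.AlgebraicGeometry.AlgClosed.Basic

/-!
# A geometrically irreducible point of codimension zero of a separated group space
-/

set_option autoImplicit false
set_option backward.isDefEq.respectTransparency false
set_option backward.isDefEq.respectTransparency.types false

universe u

open CategoryTheory CategoryTheory.Limits AlgebraicGeometry AlgSp Order Groth.Agent.AlgSpLib Groth.Agent.AlgSpPts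
  Groth.Agent.AlgSpDec Groth.Agent.AlgSpDec.FieldBC TopologicalSpace

namespace Groth.Agent.GrpScheme13

variable {k : Type u} [Field k] (G : Over ((yon (base k)).obj (Over.mk (𝟙 (base k))))) [GrpObj G]
  (K : Type u) [Field K] [Algebra k K]

/-- The base as an object over itself. -/
noncomputable abbrev pt₀ (k : Type u) [Field k] : Over (base k) := Over.mk (𝟙 (base k))

theorem subsingleton_prd_pt₀ : Subsingleton ↥(prd (pt₀ k) (sp k K)).left := by
  have : IsIso (pullback.snd (pt₀ k).hom (sp k K).hom) := inferInstanceAs (IsIso (pullback.snd (𝟙 _) _))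
  have : Subsingleton ↥(sp k K).left := inferInstanceAs (Subsingleton (PrimeSpectrum K))
  exact ⟨fun x y => (pullback.snd (pt₀ k).hom (sp k K).hom).injective (Subsingleton.elim _ _)⟩

/-- The identity point of the base change to `K`. -/
noncomputable def unitK : (yon (base k)).obj (sp k K) ⟶ G.left ⨯ (yon (base k)).obj (sp k K) :=
  (yon (base k)).map (Over.homMk (pullback.lift (sp k K).hom (𝟙 _) (by simp)) (by simp) :
    sp k K ⟶ prd (pt₀ k) (sp k K)) ≫ chart (oneH G _) (sp k K)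

theorem unitK_fst : unitK G K ≫ prod.fst = oneH G _ := by
  rw [unitK, Category.assoc, chart_fst, comp_oneH, comp_oneH]

theorem unitK_snd : unitK G K ≫ prod.snd = 𝟙 _ := by
  rw [unitK, Category.assoc, chart_snd, ← Functor.map_comp, ← CategoryTheory.Functor.map_id]
  congr 1
  exact Over.OverMorphism.ext (pullback.lift_snd _ _ _)

theorem eq_unitK_of_fst (s : ↥(sp k K).left) (z : Points (G.left ⨯ (yon (base k)).obj (sp k K)))
    (t : ↥(pt₀ k).left) (h : Points.map prod.fst z = Points.ofPt (oneH G ((yon (base k)).obj (pt₀ k))) t) :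
    z = Points.ofPt (unitK G K) s := by
  obtain ⟨w, -, rfl⟩ := exists_lift (oneH G ((yon (base k)).obj (pt₀ k))) (sp k K) t z h.symm
  rw [unitK, ofPt_comp]
  haveI := subsingleton_prd_pt₀ (k := k) K
  congr 1
  exact Subsingleton.elim _ _

variable [IsAlgClosed K]

theorem exists_section_of_etale {R : Scheme.{u}} (f : R ⟶ Spec (CommRingCat.of K)) [Etale f] (r : R) :
    ∃ σ : Spec (CommRingCat.of K) ⟶ R, σ ≫ f = 𝟙 _ ∧ ∀ t, σ t = r := by
  haveI : LocallyQuasiFinite f := AlgSpLib.locallyQuasiFinite_of_formallyUnramified f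
  haveI : DiscreteTopology R := by
    rw [← isDiscrete_univ_iff]
    have h := f.isDiscrete_preimage_singleton (IsLocalRing.closedPoint K)
    convert h using 1
    ext x
    simp only [Set.mem_univ, Set.mem_preimage, Set.mem_singleton_iff, true_iff]
    exact Subsingleton.elim (α := PrimeSpectrum K) _ _
  exact ⟨pointOfClosedPoint f r (isClosed_discrete _), pointOfClosedPoint_comp _ _ _,
    pointOfClosedPoint_apply _ _ _⟩

/-- Two points without generalisations specialising to the identity of the base change coincide. -/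
theorem eq_of_specializes_unitK (hd : IsDecent (G.left ⨯ (yon (base k)).obj (sp k K)))
    (hA : IsAlgSpace (G.left ⨯ (yon (base k)).obj (sp k K))) (s : ↥(sp k K).left)
    {z₁ z₂ : Points (G.left ⨯ (yon (base k)).obj (sp k K))}
    (h₁ : ∀ y, y ⤳ z₁ → y = z₁) (h₂ : ∀ y, y ⤳ z₂ → y = z₂)
    (hs₁ : z₁ ⤳ Points.ofPt (unitK G K) s) (hs₂ : z₂ ⤳ Points.ofPt (unitK G K) s) : z₁ = z₂ := by
  obtain ⟨U, c, u₀, -, hc, hu₀⟩ := exists_affine_chart_at hA (Points.ofPt (unitK G K) s)
  obtain ⟨u₁, hu₁, rfl⟩ := exists_specializes_lift_of_isDecent hd hc (u := u₀) (hu₀ ▸ hs₁)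
  obtain ⟨u₂, hu₂, rfl⟩ := exists_specializes_lift_of_isDecent hd hc (u := u₀) (hu₀ ▸ hs₂)
  obtain ⟨π, hπ⟩ := (yon (base k)).map_surjective (c ≫ prod.snd)
  let R := hc.rep.pullback (unitK G K)
  haveI : Etale (hc.rep.snd (unitK G K)).left := hc.property_snd _
  obtain ⟨r, hr₁, hr₂⟩ := exists_ofPt_of_eq (hc.rep.isPullback' (unitK G K)) (u := u₀) (v := s) hu₀
  obtain ⟨σ, hσ, hσr⟩ := exists_section_of_etale K (hc.rep.snd (unitK G K)).left r
  let σo : sp k K ⟶ R := Over.homMk σ (by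
    show σ ≫ R.hom = (sp k K).hom
    rw [← Over.w (hc.rep.snd (unitK G K)), ← Category.assoc, hσ, Category.id_comp])
  let s₀ : sp k K ⟶ U := σo ≫ hc.rep.fst' (unitK G K)
  have hs₀ : (yon (base k)).map s₀ ≫ c = unitK G K := by
    rw [Functor.map_comp, Category.assoc, (hc.rep.isPullback' (unitK G K)).w, ← Category.assoc,
      ← Functor.map_comp, show σo ≫ hc.rep.snd (unitK G K) = 𝟙 _ from Over.OverMorphism.ext hσ,
      CategoryTheory.Functor.map_id, Category.id_comp]
  have hs₀π : s₀ ≫ π = 𝟙 _ := (yon (base k)).map_injective (by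
    rw [Functor.map_comp, hπ, ← Category.assoc, hs₀, unitK_snd, CategoryTheory.Functor.map_id])
  have hs₀u : ∀ t, s₀.left t = u₀ := fun t => by
    show (hc.rep.fst' (unitK G K)).left (σ t) = u₀
    rw [hσr, hr₁]
  let Z : ↥U.left → Scheme.{u} := fun u =>
    (Scheme.IdealSheafData.vanishingIdeal (X := U.left) ⟨closure {u}, isClosed_closure⟩).subscheme
  let ιZ : ∀ u, Z u ⟶ U.left := fun u =>
    (Scheme.IdealSheafData.vanishingIdeal (X := U.left) ⟨closure {u}, isClosed_closure⟩).subschemeι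
  have hrange : ∀ u, Set.range (ιZ u) = closure {u} := fun u => by
    rw [Scheme.IdealSheafData.range_subschemeι, Scheme.IdealSheafData.coe_support_vanishingIdeal]
    rfl
  have hirr : ∀ u, IrreducibleSpace ↥(Z u) := fun u => by
    have h : IsIrreducible (Set.range (ιZ u)) := (hrange u).symm ▸ isIrreducible_singleton.closure
    haveI : IrreducibleSpace ↥(Set.range (ιZ u)) :=
      { toPreirreducibleSpace := Subtype.preirreducibleSpace h.isPreirreducible
        toNonempty := h.nonempty.to_subtype }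
    let e : ↥(Z u) ≃ₜ ↥(Set.range (ιZ u)) := (ιZ u).isClosedEmbedding.isEmbedding.toHomeomorph
    exact e.irreducibleSpace_iff.2 inferInstance
  have hsec : ∀ u, u ⤳ u₀ → ∃ t : (sp k K).left ⟶ Z u, t ≫ ιZ u = s₀.left := by
    intro u hu
    haveI : Surjective (pullback.snd (ιZ u) s₀.left) := ⟨fun t => by
      obtain ⟨z, hz⟩ : s₀.left t ∈ Set.range (ιZ u) := by
        rw [hrange u, hs₀u]; exact hu.mem_closure
      obtain ⟨w, -, hw⟩ := Scheme.Pullback.exists_preimage_pullback (f := ιZ u) (g := s₀.left) z t hz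
      exact ⟨w, hw⟩⟩
    haveI : IsReduced (sp k K).left := inferInstanceAs (IsReduced (Spec _))
    haveI := isIso_of_isClosedImmersion_of_surjective (pullback.snd (ιZ u) s₀.left)
    exact ⟨inv (pullback.snd (ιZ u) s₀.left) ≫ pullback.fst _ _, by
      rw [Category.assoc, pullback.condition, IsIso.inv_hom_id_assoc]⟩
  obtain ⟨t₁, ht₁⟩ := hsec u₁ hu₁
  obtain ⟨t₂, ht₂⟩ := hsec u₂ hu₂
  let g₁ : Z u₁ ⟶ Spec (CommRingCat.of K) := ιZ u₁ ≫ π.left
  let g₂ : Z u₂ ⟶ Spec (CommRingCat.of K) := ιZ u₂ ≫ π.left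
  haveI := hirr u₁
  haveI := hirr u₂
  haveI : GeometricallyIrreducible g₁ := GrpSchLib.geometricallyIrreducible_of_isAlgClosed g₁
  haveI : UniversallyOpen g₁ := inferInstance
  haveI : IrreducibleSpace ↥(pullback g₁ g₂) := inferInstance
  let P : Over (base k) := Over.mk (pullback.fst g₁ g₂ ≫ ιZ u₁ ≫ U.hom)
  let q₁ : P ⟶ U := Over.homMk (pullback.fst g₁ g₂ ≫ ιZ u₁) (Category.assoc _ _ _)
  let q₂ : P ⟶ U := Over.homMk (pullback.snd g₁ g₂ ≫ ιZ u₂) (by
    show (pullback.snd g₁ g₂ ≫ ιZ u₂) ≫ U.hom = pullback.fst g₁ g₂ ≫ ιZ u₁ ≫ U.hom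
    have e := (pullback.condition (f := g₁) (g := g₂)) =≫ (sp k K).hom
    simp only [g₁, g₂, Category.assoc, Over.w π] at e
    rw [Category.assoc]
    exact e.symm)
  let Φ : (yon (base k)).obj P ⟶ G.left ⨯ (yon (base k)).obj (sp k K) :=
    prod.lift (mulH G (((yon (base k)).map q₁ ≫ c) ≫ prod.fst) (((yon (base k)).map q₂ ≫ c) ≫ prod.fst))
      (((yon (base k)).map q₁ ≫ c) ≫ prod.snd)
  have hwgen : ∀ (p : ↥P.left) (u : ↥U.left), Points.ofPt c u = Points.ofPt Φ p →
      (∀ y, y ⤳ Points.ofPt c u → y = Points.ofPt c u) →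
      Points.ofPt Φ (genericPoint ↥(pullback g₁ g₂)) = Points.ofPt c u := fun p u hp hmax =>
    hmax _ (hp ▸ (genericPoint_specializes (α := ↥(pullback g₁ g₂)) p).map (Points.continuous_ofPt Φ))
  have key₁ : ∃ p : ↥P.left, Points.ofPt c u₁ = Points.ofPt Φ p := by
    obtain ⟨z, hz⟩ : u₁ ∈ Set.range (ιZ u₁) := (hrange u₁).ge (subset_closure rfl)
    let Z₁ : Over (base k) := Over.mk (ιZ u₁ ≫ U.hom)
    let i₁ : Z₁ ⟶ U := Over.homMk (ιZ u₁) rfl
    let τ : Z₁ ⟶ P := Over.homMk (pullback.lift (𝟙 _) (g₁ ≫ t₂) (by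
        rw [Category.id_comp, Category.assoc]
        show g₁ = g₁ ≫ t₂ ≫ ιZ u₂ ≫ π.left
        rw [reassoc_of% ht₂, show s₀.left ≫ π.left = 𝟙 _ from congrArg (fun e : sp k K ⟶ sp k K => e.left) hs₀π]
        exact (Category.comp_id g₁).symm)) (by
      show pullback.lift _ _ _ ≫ pullback.fst g₁ g₂ ≫ ιZ u₁ ≫ U.hom = ιZ u₁ ≫ U.hom
      rw [pullback.lift_fst_assoc]; exact Category.id_comp _)
    have e₁ : τ ≫ q₁ = i₁ := Over.OverMorphism.ext (by
      show pullback.lift _ _ _ ≫ pullback.fst g₁ g₂ ≫ ιZ u₁ = ιZ u₁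
      rw [pullback.lift_fst_assoc]; exact Category.id_comp _)
    have e₂ : τ ≫ q₂ = (i₁ ≫ π) ≫ s₀ := Over.OverMorphism.ext (by
      show pullback.lift _ _ _ ≫ pullback.snd g₁ g₂ ≫ ιZ u₂ = (ιZ u₁ ≫ π.left) ≫ s₀.left
      rw [pullback.lift_snd_assoc, Category.assoc, ht₂])
    have hτ : (yon (base k)).map τ ≫ Φ = (yon (base k)).map i₁ ≫ c := by
      apply Limits.prod.hom_ext
      · rw [Category.assoc, prod.lift_fst, comp_mulH]
        simp only [← Category.assoc, ← Functor.map_comp, e₁, e₂]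
        rw [Functor.map_comp _ (i₁ ≫ π)]
        simp only [Category.assoc]
        rw [reassoc_of% hs₀, unitK_fst, comp_oneH, mulH_oneH]
      · rw [Category.assoc, prod.lift_snd]
        simp only [← Category.assoc, ← Functor.map_comp, e₁]
    refine ⟨τ.left z, ?_⟩
    rw [← ofPt_comp, hτ, ofPt_comp]
    exact congrArg _ hz.symm
  have key₂ : ∃ p : ↥P.left, Points.ofPt c u₂ = Points.ofPt Φ p := by
    obtain ⟨z, hz⟩ : u₂ ∈ Set.range (ιZ u₂) := (hrange u₂).ge (subset_closure rfl)
    let Z₂ : Over (base k) := Over.mk (ιZ u₂ ≫ U.hom)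
    let i₂ : Z₂ ⟶ U := Over.homMk (ιZ u₂) rfl
    have hlift : (g₂ ≫ t₁) ≫ g₁ = 𝟙 _ ≫ g₂ := by
      rw [Category.id_comp, Category.assoc]
      show g₂ ≫ t₁ ≫ ιZ u₁ ≫ π.left = g₂
      rw [reassoc_of% ht₁, show s₀.left ≫ π.left = 𝟙 _ from congrArg (fun e : sp k K ⟶ sp k K => e.left) hs₀π]
      exact Category.comp_id g₂
    let τ : Z₂ ⟶ P := Over.homMk (pullback.lift (g₂ ≫ t₁) (𝟙 _) hlift) (by
      show pullback.lift _ _ _ ≫ pullback.fst g₁ g₂ ≫ ιZ u₁ ≫ U.hom = ιZ u₂ ≫ U.hom
      rw [pullback.lift_fst_assoc, Category.assoc, reassoc_of% ht₁, Over.w s₀]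
      show (ιZ u₂ ≫ π.left) ≫ (sp k K).hom = _
      rw [Category.assoc, Over.w π])
    have e₁ : τ ≫ q₁ = (i₂ ≫ π) ≫ s₀ := Over.OverMorphism.ext (by
      show pullback.lift _ _ _ ≫ pullback.fst g₁ g₂ ≫ ιZ u₁ = (ιZ u₂ ≫ π.left) ≫ s₀.left
      rw [pullback.lift_fst_assoc, Category.assoc, ht₁])
    have e₂ : τ ≫ q₂ = i₂ := Over.OverMorphism.ext (by
      show pullback.lift _ _ _ ≫ pullback.snd g₁ g₂ ≫ ιZ u₂ = ιZ u₂
      rw [pullback.lift_snd_assoc]; exact Category.id_comp _)
    have hτ : (yon (base k)).map τ ≫ Φ = (yon (base k)).map i₂ ≫ c := by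
      apply Limits.prod.hom_ext
      · rw [Category.assoc, prod.lift_fst, comp_mulH]
        simp only [← Category.assoc, ← Functor.map_comp, e₁, e₂]
        rw [Functor.map_comp _ (i₂ ≫ π), Category.assoc _ _ c, hs₀, Category.assoc _ _ prod.fst, unitK_fst,
          comp_oneH, oneH_mulH]
      · rw [Category.assoc, prod.lift_snd]
        simp only [← Category.assoc, ← Functor.map_comp, e₁]
        rw [Functor.map_comp _ (i₂ ≫ π), Category.assoc _ _ c, hs₀, Category.assoc _ _ prod.snd, unitK_snd,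
          Category.comp_id, Functor.map_comp, hπ, Category.assoc]
    refine ⟨τ.left z, ?_⟩
    rw [← ofPt_comp, hτ, ofPt_comp]
    exact congrArg _ hz.symm
  obtain ⟨p₁, hp₁⟩ := key₁
  obtain ⟨p₂, hp₂⟩ := key₂
  exact (hwgen p₁ u₁ hp₁ h₁).symm.trans (hwgen p₂ u₂ hp₂ h₂)

/-- There is a codimension zero point whose base change to an algebraic closure is a single point. -/
theorem exists_geomIrr_point [Algebra.IsAlgebraic k K] (hX : IsAlgSpace G.left) (hs : IsSeparatedSp G.left) :
    ∃ (T : Over (base k)) (j : (yon (base k)).obj T ⟶ G.left) (v : ↥T.left),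
      RepWith @IsOpenImmersion j ∧
      (∀ (U : Over (base k)) (a : (yon (base k)).obj U ⟶ G.left) (u : ↥U.left), RepWith @Etale a →
        coheight u = 0 → ∃ v' : ↥T.left, Points.ofPt j v' = Points.ofPt a u ∧ coheight v' = 0) ∧
      coheight v = 0 ∧ Subsingleton ↥(pullback (T.left.fromSpecResidueField v ≫ T.hom) (sp k K).hom) := by
  obtain ⟨T, j, hj, h0⟩ := exists_scheme_codimZero hX hs
  haveI : IsAffine (sp k K).left := inferInstanceAs (IsAffine (Spec _))
  have hd : IsDecent G.left := isDecent_of_isQuasiSeparatedSp hX (isQuasiSeparatedSp_of_isSeparatedSp hs)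
  have hdK := isDecent_prod hX (isQuasiSeparatedSp_of_isSeparatedSp hs) (sp k K)
  have hAK := isAlgSpace_prod hX (IsAlgSpace.yon_obj (sp k K))
  let t₀ : ↥(pt₀ k).left := IsLocalRing.closedPoint k
  let ept := Points.ofPt (oneH G ((yon (base k)).obj (pt₀ k))) t₀
  obtain ⟨U, a, u₀, -, ha, hu₀⟩ := exists_affine_chart_at hX ept
  obtain ⟨u, huu, hu⟩ := exists_max_specializes u₀
  obtain ⟨v, hv, hv0⟩ := h0 U a u ha hu
  have hspec : Points.ofPt j v ⤳ ept := by
    rw [hv, ← hu₀]; exact huu.map (Points.continuous_ofPt a)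
  refine ⟨T, j, v, hj, h0, hv0, ⟨fun w₁ w₂ => ?_⟩⟩
  let i : pullback (T.left.fromSpecResidueField v ≫ T.hom) (sp k K).hom ⟶ (prd T (sp k K)).left :=
    pullback.map _ _ _ _ (T.left.fromSpecResidueField v) (𝟙 _) (𝟙 _) (by simp) (by simp)
  haveI : Mono i := ⟨fun f g e => by
    apply pullback.hom_ext
    · rw [← cancel_mono (T.left.fromSpecResidueField v)]
      simpa [i] using congrArg (fun z => z ≫ pullback.fst _ _) e
    · simpa [i] using congrArg (fun z => z ≫ pullback.snd _ _) e⟩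
  have hjK : RepWith @IsOpenImmersion (chart j (sp k K)) := repWith_chart j (sp k K) hj
  have hinj : Function.Injective (Points.ofPt (chart j (sp k K))) := fun x y e => by
    rw [Points.ofPt_eq_map_ofScheme, Points.ofPt_eq_map_ofScheme] at e
    exact (Points.schemeHomeo _).injective ((isOpenEmbedding_map' hAK hjK).injective e)
  apply FreeAction.injective_of_mono i
  apply hinj
  haveI : IsIntegralHom (prd₁ T (sp k K)).left := by
    have h1 : IsIntegralHom (Spec.map (CommRingCat.ofHom (algebraMap k K))) :=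
      IsIntegralHom.SpecMap_iff.2 (algebraMap_isIntegral_iff.2 inferInstance)
    exact MorphismProperty.pullback_fst _ _ h1
  have hfst : ∀ w : ↥(pullback (T.left.fromSpecResidueField v ≫ T.hom) (sp k K).hom),
      (prd₁ T (sp k K)).left (i w) = v := fun w => by
    show (i ≫ pullback.fst T.hom (sp k K).hom) w = v
    rw [show i ≫ pullback.fst T.hom (sp k K).hom =
      pullback.fst (T.left.fromSpecResidueField v ≫ T.hom) (sp k K).hom ≫ T.left.fromSpecResidueField v from
        pullback.lift_fst _ _ _, Scheme.Hom.comp_apply]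
    exact Scheme.fromSpecResidueField_apply _ _
  have hmax : ∀ w, ∀ y, y ⤳ Points.ofPt (chart j (sp k K)) (i w) → y = Points.ofPt (chart j (sp k K)) (i w) := by
    intro w y hy
    obtain ⟨y', rfl⟩ : ∃ y', Points.ofPt (chart j (sp k K)) y' = y := by
      obtain ⟨z, hz⟩ := hy.mem_open (isOpenEmbedding_map' hAK hjK).isOpen_range
        ⟨_, (Points.ofPt_eq_map_ofScheme _ _).symm⟩
      obtain ⟨y', rfl⟩ := (Points.schemeHomeo _).surjective z
      exact ⟨y', (Points.ofPt_eq_map_ofScheme _ _).trans hz⟩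
    rw [Points.ofPt_eq_map_ofScheme, Points.ofPt_eq_map_ofScheme] at hy
    have hy' : y' ⤳ i w := (Points.schemeHomeo _).isInducing.specializes_iff.1
      ((isOpenEmbedding_map' hAK hjK).isInducing.specializes_iff.1 hy)
    congr 1
    refine GrpSchLib.eq_of_specializes_of_isIntegralHom (prd₁ T (sp k K)).left hy' ?_
    rw [hfst w]
    exact AlgSpDec.eq_of_specializes_of_coheight hv0 (hfst w ▸ hy'.map (prd₁ T (sp k K)).left.continuous)
  have hsp : ∀ w, Points.ofPt (chart j (sp k K)) (i w) ⤳ Points.ofPt (unitK G K) (IsLocalRing.closedPoint K) := by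
    intro w
    have hc := FieldBC.isClosedMap_fst (k := k) (K := K) hX _
      (isClosed_closure (s := {Points.ofPt (chart j (sp k K)) (i w)}))
    obtain ⟨z', hz', hze⟩ := hc.closure_subset_iff.2 (Set.singleton_subset_iff.2 ⟨_, subset_closure rfl, by
      rw [map_fst_ofPt, hfst w]⟩) hspec.mem_closure
    rw [← eq_unitK_of_fst G K _ z' t₀ hze]
    exact specializes_iff_mem_closure.2 hz'
  exact eq_of_specializes_unitK G K hdK hAK _ (hmax w₁) (hmax w₂) (hsp w₁) (hsp w₂)

end Groth.Agent.GrpScheme13
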