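import Groth.Agent.AlgSpDec.AffineClassQuot
import Groth.Agent.AlgSpDec.FinsetAffine
import Groth.Agent.AlgSpDec.LimImmersion
import Groth.Agent.AlgSpDec.FinLocFree
import Groth.Agent.AlgSpDec.FieldGal
import Groth.Agent.AlgSpDec.FieldConn
import Groth.Agent.GrpScheme13.Points
import Mathlib.AlgebraicGeometry.Morphisms.Finite

/-!
# Descending scheme neighbourhoods along finite field extensions
-/

set_option autoImplicit false
set_option linter.style.haveILetI false
set_option backward.isDefEq.respectTransparency false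
set_option backward.isDefEq.respectTransparency.types false

universe u

open CategoryTheory CategoryTheory.Limits AlgebraicGeometry AlgSp Groth.Agent.AlgSpLib Groth.Agent.AlgSpPts
  Groth.Agent.AlgSpDec Groth.Agent.AlgSpDec.FieldBC

namespace Groth.Agent.GrpScheme13

/-- A space with a finite locally free cover by a scheme with finite sets in affine opens is a scheme. -/
theorem exists_iso_of_finLocFree {S : Scheme.{u}} {X : Sp S} {U : Over S} (a : (yon S).obj U ⟶ X)
    (ha : RepWith finLocFree a) (hs : RepWith @Surjective a)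
    (hU : ∀ T : Set ↥U.left, T.Finite → ∃ W : U.left.Opens, IsAffineOpen W ∧ T ⊆ W) :
    ∃ Z : Over S, Nonempty ((yon S).obj Z ≅ X) := by
  let R := ha.rep.pullback a
  let t : R ⟶ U := ha.rep.fst' a
  let s : R ⟶ U := ha.rep.snd a
  have sq : IsPullback ((yon S).map t) ((yon S).map s) a a := ha.rep.isPullback' a
  have hfl' : finLocFree s.left := ha.property_snd a
  obtain ⟨G, hU', hR, hgs, hgt, hpU, hpR⟩ := exists_groupoid_over sq
  obtain ⟨GU, GR, pU, pR, gs, gt, ge, gi, gc, h1, h2, h3, h4, h5, h6, h7, h8, h9, h10, h11, h12, h13⟩ := G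
  subst hU' hR
  obtain rfl : gs = s.left := eq_of_heq hgs
  obtain rfl : gt = t.left := eq_of_heq hgt
  obtain rfl : pU = U.hom := eq_of_heq hpU
  obtain rfl : pR = R.hom := eq_of_heq hpR
  let G : Grpd.GroupoidScheme S :=
    ⟨_, _, U.hom, R.hom, _, _, ge, gi, gc, h1, h2, h3, h4, h5, h6, h7, h8, h9, h10, h11, h12, h13⟩
  have hfl : Mor2.IsFinLocFree G.s := ⟨hfl'.1, hfl'.2.1, hfl'.2.2⟩
  have heq : AlgSp.IsEqvRel s t := by
    refine ⟨fun T r r' ht' hs' => ?_, fun T => ⟨fun y => ?_, ?_, ?_⟩⟩
    · exact Over.OverMorphism.ext (rel_ext sq (congrArg Over.Hom.left ht') (congrArg Over.Hom.left hs'))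
    · exact exists_rel_lift sq y y rfl
    · rintro y z ⟨r, rfl, rfl⟩
      refine exists_rel_lift sq _ _ ?_
      rw [(yon S).map_comp r t, (yon S).map_comp r s, Category.assoc, Category.assoc, sq.w]
    · rintro y z w ⟨r, rfl, hr⟩ ⟨r', rfl, rfl⟩
      refine exists_rel_lift sq _ _ ?_
      rw [(yon S).map_comp r t, Category.assoc, sq.w, ← Category.assoc, ← (yon S).map_comp r s, hr,
        (yon S).map_comp r' t, Category.assoc, sq.w, ← Category.assoc, ← (yon S).map_comp r' s]
  obtain ⟨M, m, hm, hmsurj, hpb, -⟩ := FinLocFreeQuot.exists_quotient G hfl heq (fun Z _ ⟨z, hz⟩ => by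
    haveI : IsFinite G.s := hfl.1
    obtain ⟨W, hW, hsub⟩ := hU (G.t '' (G.s ⁻¹' {z}))
      ((G.s.finite_preimage_singleton z).image _)
    exact ⟨z, hz, W, hW, fun r hr => hsub ⟨r, hr, rfl⟩⟩)
  let m' : U ⟶ M := m
  haveI : Flat m'.left := hm.2.1
  haveI : LocallyOfFinitePresentation m'.left := hm.2.2
  haveI : Surjective m'.left := hmsurj
  haveI : Sheaf.IsLocallySurjective a := isLocallySurjective_of_repWith ⟨ha.1, fun X' Y' g fst snd h => by
    obtain ⟨-, hf, hp⟩ := ha.property g fst snd h
    haveI : Flat snd.left := hf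
    haveI : LocallyOfFinitePresentation snd.left := hp
    haveI : Surjective snd.left := hs.property g fst snd h
    exact fppf_of snd.left⟩
  haveI : Sheaf.IsLocallySurjective ((yon S).map m') :=
    isLocallySurjective_of_repWith ((repWith_yon_map_iff fppf m').2 (fppf_of m'.left))
  haveI : Epi a := (Sheaf.isLocallySurjective_iff_epi a).1 inferInstance
  haveI : Epi ((yon S).map m') := (Sheaf.isLocallySurjective_iff_epi _).1 inferInstance
  have hpb' : IsPullback ((yon S).map t) ((yon S).map s) ((yon S).map m') ((yon S).map m') :=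
    (IsPullback.of_map (Over.forget S) (f := t) (g := s) (h := m') (i := m')
      (Over.OverMorphism.ext hpb.w) hpb).map (yon S)
  exact ⟨M, nonempty_iso_of_same_kernelPair _ _ _ _ hpb' sq⟩

variable {k : Type u} [Field k] (k' : Type u) [Field k'] [Algebra k k'] [FiniteDimensional k k']

theorem finLocFree_surjective_sp : finLocFree (sp k k').hom ∧ Surjective (sp k k').hom := by
  have hm : Module.Finite k k' := inferInstance
  refine ⟨⟨?_, ?_, ?_⟩, ?_⟩
  · exact (IsFinite.SpecMap_iff _).2 (RingHom.finite_algebraMap.2 hm)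
  · exact (HasRingHomProperty.Spec_iff (P := @Flat)).2 (RingHom.flat_algebraMap_iff.2 inferInstance)
  · exact (HasRingHomProperty.Spec_iff (P := @LocallyOfFinitePresentation)).2
      (RingHom.finitePresentation_algebraMap.2 ((Algebra.FinitePresentation.of_finiteType (R := k) (A := k')).1 inferInstance))
  · exact ⟨Function.surjective_to_subsingleton (α := PrimeSpectrum k') (β := PrimeSpectrum k) _⟩

/-- A point whose fibre in a finite extension lies in an affine open has a scheme neighbourhood. -/
theorem exists_open_scheme_of_finite {X : Sp (base k)} (hX : IsAlgSpace X) (x : Points X) {W : Over (base k)}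
    [IsAffine W.left] (j : (yon (base k)).obj W ⟶ X ⨯ (yon (base k)).obj (sp k k')) (hj : RepWith @IsOpenImmersion j)
    (hx : ∀ z, Points.map prod.fst z = x → z ∈ Set.range (Points.map j)) :
    ∃ (T : Over (base k)) (i : (yon (base k)).obj T ⟶ X),
      RepWith @IsOpenImmersion i ∧ x ∈ Set.range (Points.map i) := by
  have hXk := isAlgSpace_prod hX (IsAlgSpace.yon_obj (sp k k'))
  have hjo := isOpenEmbedding_map' hXk hj
  haveI : Algebra.IsAlgebraic k k' := Algebra.IsAlgebraic.of_finite k k'
  have hZ := FieldBC.isClosedMap_fst (k := k) (K := k') hX _ hjo.isOpen_range.isClosed_compl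
  obtain ⟨Q, iQ, hQ, hiQ, hrange⟩ := exists_open_subspace hX hZ.isOpen_compl
  have hsq := FieldBC.isPullback_prod_id (X := Q) ((yon (base k)).map (Over.mkIdTerminal.from (sp k k')))
  let q : Q ⨯ (yon (base k)).obj (sp k k') ⟶ X ⨯ (yon (base k)).obj (sp k k') := prod.map iQ (𝟙 _)
  have sqq : IsPullback (prod.fst : Q ⨯ (yon (base k)).obj (sp k k') ⟶ Q) q iQ prod.fst :=
    ⟨⟨(prod.map_fst _ _).symm⟩, ⟨PullbackCone.IsLimit.mk _ (fun s => prod.lift s.fst (s.snd ≫ prod.snd))
      (fun s => by simp)
      (fun s => by apply Limits.prod.hom_ext <;> simp [q, s.condition])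
      (fun s m h1 h2 => by
        apply Limits.prod.hom_ext
        · simpa using h1
        · have := h2 =≫ prod.snd
          simpa [q] using this)⟩⟩
  have hq : RepWith @IsOpenImmersion q := repWith_of_isPullback sqq hiQ
  have hQk := isAlgSpace_prod hQ (IsAlgSpace.yon_obj (sp k k'))
  obtain ⟨l, hl⟩ := exists_factor_open_sp hQk hj q (fun p => by
    have h1 : Points.map prod.fst (Points.map q p) ∈ Set.range (Points.map iQ) :=
      ⟨Points.map prod.fst p, by rw [← Points.map_comp, ← Points.map_comp, sqq.w]⟩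
    rw [hrange] at h1
    exact not_not.1 fun h => h1 ⟨_, h, rfl⟩)
  haveI := mono_of_openImm hj
  have hlo : RepWith @IsOpenImmersion l := repWith_of_comp_mono l j (hl.symm ▸ hq)
  let P := hlo.rep.pullback (𝟙 ((yon (base k)).obj W))
  have sqP := hlo.rep.isPullback (𝟙 ((yon (base k)).obj W))
  haveI : IsIso (hlo.rep.fst (𝟙 ((yon (base k)).obj W))) := sqP.isIso_fst_of_isIso
  haveI : IsOpenImmersion (hlo.rep.snd (𝟙 ((yon (base k)).obj W))).left := hlo.property_snd _
  have hsqQ : IsPullback (prod.snd : Q ⨯ (yon (base k)).obj (sp k k') ⟶ _) prod.fst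
      ((yon (base k)).map (Over.mkIdTerminal.from (sp k k'))) ((isTerminalYon (base k)).from Q) := by
    have h := (IsPullback.of_is_product' (prodIsProd Q ((yon (base k)).obj (sp k k'))) (isTerminalYon (base k))).flip
    rw [(isTerminalYon (base k)).hom_ext ((yon (base k)).map (Over.mkIdTerminal.from (sp k k')))
      ((isTerminalYon (base k)).from _)]
    exact h
  haveI : (finLocFree.{u}).IsStableUnderBaseChange := by rw [AlgSpLib.finLocFree_eq]; infer_instance
  have hleft : (Over.mkIdTerminal.from (sp k k')).left = (sp k k').hom :=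
    (Category.comp_id _).symm.trans (Over.w (Over.mkIdTerminal.from (sp k k')))
  have hfl : RepWith finLocFree (prod.fst : Q ⨯ (yon (base k)).obj (sp k k') ⟶ Q) :=
    repWith_of_isPullback hsqQ ((repWith_yon_map_iff _ _).2 (hleft ▸ (finLocFree_surjective_sp k').1))
  have hsj : RepWith @Surjective (prod.fst : Q ⨯ (yon (base k)).obj (sp k k') ⟶ Q) :=
    repWith_of_isPullback hsqQ ((repWith_yon_map_iff _ _).2 (hleft ▸ (finLocFree_surjective_sp k').2))
  let e := asIso (hlo.rep.fst (𝟙 ((yon (base k)).obj W)))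
  obtain ⟨Z, ⟨f⟩⟩ := exists_iso_of_finLocFree (e.hom ≫ prod.fst)
    (((RepWith (S := base k) finLocFree).cancel_left_of_respectsIso e.hom _).2 hfl)
    (((RepWith (S := base k) @Surjective).cancel_left_of_respectsIso e.hom _).2 hsj)
    (fun T hT => exists_affineOpen_of_finite (hlo.rep.snd (𝟙 ((yon (base k)).obj W))).left hT)
  refine ⟨Z, f.hom ≫ iQ, repWith_comp (repWith_of_isIso _ f.hom) hiQ, ?_⟩
  obtain ⟨z, hz⟩ : x ∈ Set.range (Points.map iQ) := by
    rw [hrange]
    rintro ⟨z, hz, hzx⟩
    exact hz (hx z hzx)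
  exact ⟨Points.map f.inv z, by rw [← Points.map_comp, f.inv_hom_id_assoc, hz]⟩

end Groth.Agent.GrpScheme13
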