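import Groth.Agent.GrpScheme13.Mul
import Groth.Agent.GrpScheme13.Points

/-!
# Generic translates have codimension zero
-/

set_option autoImplicit false
set_option backward.isDefEq.respectTransparency false
set_option backward.isDefEq.respectTransparency.types false

universe u

open CategoryTheory CategoryTheory.Limits AlgebraicGeometry AlgSp Order Groth.Agent.AlgSpLib Groth.Agent.AlgSpPts
  Groth.Agent.AlgSpDec Groth.Agent.AlgSpDec.FieldBC TopologicalSpace

namespace Groth.Agent.GrpScheme13

variable {k : Type u} [Field k] (G : Over ((yon (base k)).obj (Over.mk (𝟙 (base k))))) [GrpObj G]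

/-- The residue point of a scheme over `k`. -/
noncomputable abbrev resPt (T : Over (base k)) (v : ↥T.left) : Over (base k) :=
  Over.mk (T.left.fromSpecResidueField v ≫ T.hom)

/-- The residue point maps to its scheme. -/
noncomputable abbrev resι (T : Over (base k)) (v : ↥T.left) : resPt T v ⟶ T :=
  Over.homMk (T.left.fromSpecResidueField v) rfl

/-- The product of a point of the group with the residue point `v`. -/
noncomputable def prodPt {T E : Over (base k)} (j : (yon (base k)).obj T ⟶ G.left) (v : ↥T.left)
    (x : (yon (base k)).obj E ⟶ G.left) : (yon (base k)).obj (prd (resPt T v) E) ⟶ G.left :=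
  mulH G ((yon (base k)).map (prd₂ (resPt T v) E) ≫ x)
    ((yon (base k)).map (prd₁ (resPt T v) E) ≫ (yon (base k)).map (resι T v) ≫ j)

theorem exists_generic_mem (hX : IsAlgSpace G.left) {T : Over (base k)} {j : (yon (base k)).obj T ⟶ G.left}
    (hj : RepWith @IsOpenImmersion j)
    (h0 : ∀ (U : Over (base k)) (a : (yon (base k)).obj U ⟶ G.left) (u : ↥U.left), RepWith @Etale a →
      coheight u = 0 → ∃ v' : ↥T.left, Points.ofPt j v' = Points.ofPt a u ∧ coheight v' = 0)
    {v : ↥T.left} (hv : coheight v = 0) {E : Over (base k)} [Flat E.hom] (e : ↥E.left)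
    (x : (yon (base k)).obj E ⟶ G.left) :
    ∃ (w : ↥(prd (resPt T v) E).left) (v' : ↥T.left), Points.ofPt j v' = Points.ofPt (prodPt G j v x) w := by
  have : Subsingleton ↥(base k) := inferInstanceAs (Subsingleton (PrimeSpectrum k))
  obtain ⟨w₀, -, -⟩ := Scheme.Pullback.exists_preimage_pullback (f := (resPt T v).hom) (g := E.hom)
    (IsLocalRing.closedPoint _ : ↥(Spec (T.left.residueField v))) e (Subsingleton.elim _ _)
  obtain ⟨w, -, hw⟩ := exists_max_specializes (Y := (prd (resPt T v) E).left) w₀
  let i : prd (resPt T v) E ⟶ prd T E := Over.homMk (pullback.map _ _ _ _ (T.left.fromSpecResidueField v) (𝟙 _)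
    (𝟙 _) (by simp) (by simp)) (by
      show pullback.map _ _ _ _ _ _ _ _ _ ≫ pullback.fst T.hom E.hom ≫ T.hom = _
      rw [pullback.lift_fst_assoc, Category.assoc]
      rfl)
  have hie : i.left = (pullbackRightPullbackFstIso T.hom E.hom (T.left.fromSpecResidueField v)).inv ≫
      pullback.snd (T.left.fromSpecResidueField v) (pullback.fst T.hom E.hom) := by
    apply pullback.hom_ext <;> simp [i, ← pullback.condition]
  have : IsPreimmersion i.left := by rw [hie]; infer_instance
  have hfst : ∀ p, (prd₁ T E).left (i.left p) = v := fun p => by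
    show (i.left ≫ pullback.fst T.hom E.hom) p = v
    rw [show i.left ≫ pullback.fst T.hom E.hom =
      pullback.fst (resPt T v).hom E.hom ≫ T.left.fromSpecResidueField v from pullback.lift_fst _ _ _,
      Scheme.Hom.comp_apply]
    exact Scheme.fromSpecResidueField_apply _ _
  have hw' : coheight (i.left w) = 0 := coheight_eq_zero_of_max fun y hy => by
    have h1 : (prd₁ T E).left y = v :=
      AlgSpDec.eq_of_specializes_of_coheight hv (hfst w ▸ hy.map (prd₁ T E).left.continuous)
    obtain ⟨y', rfl⟩ : y ∈ Set.range i.left := by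
      have hr := Scheme.Pullback.range_map (resPt T v).hom E.hom T.hom E.hom (T.left.fromSpecResidueField v)
        (𝟙 E.left) (𝟙 (base k)) (Category.comp_id _) ((Category.comp_id _).trans (Category.id_comp _).symm)
      exact hr.ge ⟨⟨IsLocalRing.closedPoint (T.left.residueField v),
        (Scheme.fromSpecResidueField_apply _ _).trans h1.symm⟩, _, rfl⟩
    rw [AlgSpDec.eq_of_specializes_of_coheight hw (i.left.isEmbedding.isInducing.specializes_iff.1 hy)]
  let c : (yon (base k)).obj (prd T E) ⟶ G.left ⨯ (yon (base k)).obj E := chart j E ≫ (translL G x).hom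
  have hc : RepWith @Etale c := repWith_comp (repWith_chart j E (etale_of_openImm hj)) (repWith_of_isIso _ _)
  have hfac : (yon (base k)).map i ≫ c ≫ prod.fst = prodPt G j v x := by
    have e1 : i ≫ prd₂ T E = prd₂ (resPt T v) E :=
      Over.OverMorphism.ext ((pullback.lift_snd _ _ _).trans (Category.comp_id _))
    have e2 : i ≫ prd₁ T E = prd₁ (resPt T v) E ≫ resι T v := Over.OverMorphism.ext (pullback.lift_fst _ _ _)
    rw [Category.assoc, translL_hom_fst, comp_mulH, comp_mulH, prodPt, reassoc_of% (chart_snd j E),
      chart_fst, ← Category.assoc, ← Category.assoc, ← Functor.map_comp, ← Functor.map_comp, e1, e2,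
      Functor.map_comp, Category.assoc]
  obtain ⟨U, a, u, -, ha, hu⟩ := exists_affine_chart_at hX (Points.ofPt (prodPt G j v x) w)
  obtain ⟨w'', hw''u, hw''⟩ := exists_lift a E u (Points.ofPt c (i.left w)) (by
    rw [hu, ← hfac, ofPt_comp, Points.map_ofPt])
  have h1 : coheight w'' = 0 := (coheight_eq_of_charts (repWith_chart a E ha) hc hw'').trans hw'
  haveI : Flat (prd₁ U E).left := MorphismProperty.pullback_fst _ _ ‹Flat E.hom›
  obtain ⟨v', hv', -⟩ := h0 U a u ha (hw''u ▸ coheight_eq_zero_of_flat _ h1)
  exact ⟨w, v', hv'.trans hu⟩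

end Groth.Agent.GrpScheme13
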