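import Groth.Agent.GrpScheme13.Points
import Groth.Agent.AlgSpDec.LimScheme
import Groth.Agent.AlgSpDec.LimImmersion
import Groth.Agent.AlgSpDec.LimOpen
import Groth.Agent.AlgSpDec.FieldConn
import Mathlib.RingTheory.Adjoin.FG
import Mathlib.CategoryTheory.Limits.Constructions.Over.Connected

/-!
# Spreading out affine opens from a field extension
-/

set_option autoImplicit false
set_option linter.style.haveILetI false
set_option backward.isDefEq.respectTransparency false
set_option backward.isDefEq.respectTransparency.types false

universe u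

open CategoryTheory CategoryTheory.Limits AlgebraicGeometry AlgSp Opposite Groth.Agent.AlgSpLib Groth.Agent.AlgSpPts
  Groth.Agent.AlgSpDec Groth.Agent.AlgSpDec.FieldBC

namespace Groth.Agent.GrpScheme13

variable {k : Type u} [Field k] (F : Type u) [Field F] [Algebra k F]

/-- The finitely generated subalgebras of `F`. -/
noncomputable def rings : Finset F ⥤ CommRingCat.{u} where
  obj s := CommRingCat.of (Algebra.adjoin k (s : Set F))
  map {s t} h := CommRingCat.ofHom
    (Subalgebra.inclusion (Algebra.adjoin_mono (Finset.coe_subset.2 (leOfHom h)))).toRingHom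

/-- The cocone of the inclusions into `F`. -/
noncomputable def cocone : Cocone (rings (k := k) F) where
  pt := CommRingCat.of F
  ι := { app := fun s => CommRingCat.ofHom (Algebra.adjoin k (s : Set F)).val.toRingHom }

/-- `F` is the colimit of its finitely generated subalgebras. -/
noncomputable def isColimit : IsColimit (cocone (k := k) F) := by
  classical
  haveI : ReflectsColimit (rings (k := k) F) (forget CommRingCat.{u}) :=
    reflectsColimit_of_reflectsIsomorphisms _ _
  refine isColimitOfReflects (forget CommRingCat.{u}) ?_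
  refine Types.FilteredColimit.isColimitOf' _ _ (fun z => ?_) fun s x y h => ?_
  · exact ⟨{z}, ⟨z, Algebra.subset_adjoin (Finset.mem_singleton_self z)⟩, rfl⟩
  · exact ⟨s, 𝟙 s, congrArg _ (Subtype.ext h)⟩

/-- The spectrum of a subalgebra over `k`. -/
noncomputable abbrev spA (A : Subalgebra k F) : Over (base k) :=
  Over.mk (Spec.map (CommRingCat.ofHom (algebraMap k A)))

/-- The morphism to the spectrum of a subalgebra. -/
noncomputable abbrev inclA (A : Subalgebra k F) : sp k F ⟶ spA F A :=
  Over.homMk (Spec.map (CommRingCat.ofHom A.val.toRingHom)) (by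
    show Spec.map _ ≫ Spec.map _ = Spec.map _
    rw [← Spec.map_comp]
    rfl)

/-- The system over `k`. -/
noncomputable def sys : (Finset F)ᵒᵖ ⥤ Over (base k) where
  obj s := spA F (Algebra.adjoin k (s.unop : Set F))
  map {s t} h := Over.homMk (Spec.map ((rings (k := k) F).map h.unop)) (by
    show Spec.map _ ≫ Spec.map _ = Spec.map _
    rw [← Spec.map_comp]
    rfl)
  map_id s := Over.OverMorphism.ext (by
    show Spec.map _ = _
    rw [unop_id, CategoryTheory.Functor.map_id]
    exact Spec.map_id _)
  map_comp f g := Over.OverMorphism.ext (by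
    show Spec.map _ = _
    rw [unop_comp, Functor.map_comp, Spec.map_comp]; rfl)

/-- The cone on `Spec F`. -/
noncomputable def cone : Cone (sys (k := k) F) where
  pt := sp k F
  π :=
    { app := fun s => inclA F (Algebra.adjoin k (s.unop : Set F))
      naturality := fun s t h => Over.OverMorphism.ext (by
        show 𝟙 _ ≫ Spec.map _ = Spec.map _ ≫ Spec.map _
        rw [Category.id_comp, ← Spec.map_comp]
        exact congrArg Spec.map ((cocone (k := k) F).w h.unop).symm) }

/-- `Spec F` is the limit of the system. -/
noncomputable def isLimit : IsLimit (cone (k := k) F) := by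
  haveI : IsConnected (Finset F)ᵒᵖ := IsCofiltered.isConnected _
  haveI : PreservesLimitsOfSize.{u, u} Scheme.Spec.{u} := ΓSpec.adjunction.rightAdjoint_preservesLimits
  refine isLimitOfReflects (Over.forget (base k)) ?_
  exact IsLimit.ofIsoLimit (isLimitOfPreserves Scheme.Spec (isColimit (k := k) F).op)
    (Cone.ext (Iso.refl _) (fun s => (Category.id_comp _).symm))

variable {F}

/-- Products with a fixed sheaf preserve limits over cofiltered shapes. -/
noncomputable def isLimitProd {I : Type u} [SmallCategory I] [IsCofiltered I] (Y : Sp (base k))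
    {D : I ⥤ Sp (base k)} {c : Cone D} (hc : IsLimit c) : IsLimit ((prod.functor.obj Y).mapCone c) :=
  let i₀ : I := IsCofiltered.nonempty.some
  { lift := fun s => prod.lift (s.π.app i₀ ≫ prod.fst) (hc.lift
      { pt := s.pt
        π :=
          { app := fun i => s.π.app i ≫ prod.snd
            naturality := fun i j φ => by
              refine (Category.id_comp _).trans ?_
              rw [← s.w φ, Category.assoc, Category.assoc]
              congr 1
              exact prod.map_snd _ _ } })
    fac := fun s i => by
      apply Limits.prod.hom_ext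
      · show (prod.lift _ _ ≫ prod.map (𝟙 Y) _) ≫ prod.fst = _
        rw [Category.assoc, prod.map_fst, Category.comp_id, prod.lift_fst]
        rw [← s.w (IsCofiltered.minToLeft i i₀), ← s.w (IsCofiltered.minToRight i i₀), Category.assoc,
          Category.assoc]
        congr 1
        exact (prod.map_fst _ _).trans ((Category.comp_id _).trans
          ((prod.map_fst _ _).trans (Category.comp_id _)).symm)
      · show (prod.lift _ _ ≫ prod.map (𝟙 Y) _) ≫ prod.snd = _
        rw [Category.assoc, prod.map_snd, prod.lift_snd_assoc, hc.fac]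
    uniq := fun s m hm => by
      apply Limits.prod.hom_ext
      · rw [prod.lift_fst, ← hm i₀, Category.assoc]
        congr 1
        exact ((prod.map_fst _ _).trans (Category.comp_id _)).symm
      · rw [prod.lift_snd]
        refine hc.hom_ext fun i => ?_
        rw [hc.fac, Category.assoc]
        show _ = s.π.app i ≫ prod.snd
        rw [← hm i, Category.assoc]
        congr 1
        exact (prod.map_snd _ _).symm }

theorem isAffineMor_prod_map (Y : Sp (base k)) {V V' : Over (base k)} (g : V' ⟶ V) [IsAffine V.left]
    [IsAffine V'.left] :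
    IsAffineMor (prod.map (𝟙 Y) ((yon (base k)).map g)) := by
  refine isAffineMor_of_repWith le_rfl (repWith_of_isPullback (FieldBC.isPullback_prod_id (X := Y) ((yon (base k)).map g)).flip
    ((repWith_yon_map_iff _ g).2 (isAffineHom_of_isAffine g.left)))

/-- An affine open of `Y × Spec F` comes from a finitely generated subalgebra. -/
theorem exists_spread {Y : Sp (base k)} (hY : IsAlgSpace Y) (hqc : IsQuasiCompactSp Y)
    (hqs : IsQuasiSeparatedSp Y) {W : Over (base k)} [IsAffine W.left]
    (j : (yon (base k)).obj W ⟶ Y ⨯ (yon (base k)).obj (sp k F)) (hj : RepWith @IsOpenImmersion j) :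
    ∃ (A : Subalgebra k F) (_ : A.FG) (W' : Over (base k))
      (j' : (yon (base k)).obj W' ⟶ Y ⨯ (yon (base k)).obj (spA F A)),
      IsAffine W'.left ∧ RepWith @IsOpenImmersion j' ∧ ∀ p ∈ Set.range (Points.map j),
        Points.map (prod.map (𝟙 Y) ((yon (base k)).map (inclA F A))) p ∈ Set.range (Points.map j') := by
  haveI : QuasiSeparatedSpace ↥(base k) := inferInstanceAs (QuasiSeparatedSpace ↥(Spec _))
  let D : (Finset F)ᵒᵖ ⥤ Sp (base k) := (sys (k := k) F ⋙ yon (base k)) ⋙ prod.functor.obj Y
  let c : Cone D := (prod.functor.obj Y).mapCone ((yon (base k)).mapCone (cone F))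
  have hc : IsLimit c := isLimitProd Y (isLimitOfPreserves (yon (base k)) (isLimit F))
  have hAff : ∀ s, IsAffine ((sys (k := k) F).obj s).left := fun s => isAffine_Spec _
  have hD : ∀ i, IsAlgSpace (D.obj i) := fun i => isAlgSpace_prod hY (IsAlgSpace.yon_obj _)
  have hDa : ∀ (i i' : (Finset F)ᵒᵖ) (φ : i ⟶ i'), IsAffineMor (D.map φ) := fun i i' φ =>
    haveI := hAff i
    haveI := hAff i'
    isAffineMor_prod_map Y ((sys (k := k) F).map φ)
  have hqs' : ∀ i, IsQuasiSeparatedSp (D.obj i) := fun i =>
    haveI := hAff i
    isQuasiSeparatedSp_prod hqs _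
  let i₁ : (Finset F)ᵒᵖ := op ∅
  haveI := hAff i₁
  obtain ⟨i, Ui, ji, q, hji, hUc, sq⟩ := exists_quasiCompact_open_descends D hD hDa hqs' c hc i₁
    (isQuasiCompactSp_prod hY hqc _) (show (yon (base k)).obj W ⟶ c.pt from j) hj
    (isQuasiCompactSp_yon W)
  haveI := mono_of_openImm hji
  obtain ⟨i', φ, T', a, b, hT', sb⟩ := exists_affine_pullback_stage D hD hDa c hc
    (isAlgSpace_of_representable (hD i) ji hji.rep) hUc (isQuasiSeparatedSp_of_mono ji (hqs' i)) ji
    sq.flip (T := W) ‹_› (Iso.refl _)
  refine ⟨Algebra.adjoin k (i'.unop : Set F), Subalgebra.fg_adjoin_finset _, T', b, hT',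
    repWith_of_isPullback sb hji, ?_⟩
  rintro p ⟨w, rfl⟩
  have e : Points.map ji (Points.map q w) = Points.map (D.map φ) (Points.map (c.π.app i') (Points.map j w)) := by
    have e' : q ≫ ji = (j ≫ c.π.app i') ≫ D.map φ := (sq.w.symm.trans (congrArg (j ≫ ·) (c.w φ).symm)).trans
      (Category.assoc _ _ _).symm
    rw [← Points.map_comp, e', Points.map_comp, Points.map_comp]
  obtain ⟨z, -, hz⟩ := exists_point_of_isPullback sb e
  exact ⟨z, hz⟩

end Groth.Agent.GrpScheme13
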