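import Groth.Agent.GrpScheme13.Alg
import Groth.Agent.GrpScheme13.Component
import Groth.Agent.GrpScheme13.Generic
import Groth.Agent.GrpScheme13.Limit
import Groth.Agent.GrpScheme13.FiniteDescent
import Groth.Agent.AlgSpDec.AffineRep
import Groth.Agent.S10197

/-!
# Separated group spaces over a field are schemes
-/

set_option autoImplicit false
set_option linter.style.haveILetI false
set_option backward.isDefEq.respectTransparency false
set_option backward.isDefEq.respectTransparency.types false

universe u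

open CategoryTheory CategoryTheory.Limits AlgebraicGeometry AlgSp Groth.Agent.AlgSpLib Groth.Agent.AlgSpPts
  Groth.Agent.AlgSpDec Groth.Agent.AlgSpDec.FieldBC TensorProduct

namespace Groth.Agent.GrpScheme13

variable {k : Type u} [Field k]

/-- The spectrum of an algebra over `k`. -/
noncomputable abbrev spR (R : Type u) [CommRing R] [Algebra k R] : Over (base k) :=
  Over.mk (Spec.map (CommRingCat.ofHom (algebraMap k R)))

/-- The morphism of spectra of an algebra map. -/
noncomputable abbrev spMap {R R' : Type u} [CommRing R] [CommRing R'] [Algebra k R] [Algebra k R']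
    (φ : R →ₐ[k] R') : spR (k := k) R' ⟶ spR R :=
  Over.homMk (Spec.map (CommRingCat.ofHom φ.toRingHom)) (by
    show Spec.map _ ≫ Spec.map _ = Spec.map _
    rw [← Spec.map_comp]
    congr 1
    ext x
    exact φ.commutes x)

/-- The spectrum of a tensor product is the product. -/
noncomputable def tensorIso (R R' : Type u) [CommRing R] [CommRing R'] [Algebra k R] [Algebra k R'] :
    spR (k := k) (R ⊗[k] R') ≅ prd (spR R) (spR R') :=
  Over.isoMk (pullbackSpecIso k R R').symm (by
    show (pullbackSpecIso k R R').inv ≫ pullback.fst _ _ ≫ Spec.map _ = Spec.map _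
    rw [← Category.assoc, pullbackSpecIso_inv_fst, ← Spec.map_comp]
    rfl)

theorem tensorIso_fst (R R' : Type u) [CommRing R] [CommRing R'] [Algebra k R] [Algebra k R'] :
    (tensorIso (k := k) R R').hom ≫ prd₁ _ _ = spMap Algebra.TensorProduct.includeLeft :=
  Over.OverMorphism.ext (pullbackSpecIso_inv_fst k R R')

theorem tensorIso_snd (R R' : Type u) [CommRing R] [CommRing R'] [Algebra k R] [Algebra k R'] :
    (tensorIso (k := k) R R').hom ≫ prd₂ _ _ = spMap Algebra.TensorProduct.includeRight :=
  Over.OverMorphism.ext (pullbackSpecIso_inv_snd k R R')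

theorem tensorIso_natural (R : Type u) [CommRing R] [Algebra k R] {A A' : Type u} [CommRing A] [CommRing A']
    [Algebra k A] [Algebra k A'] (φ : A →ₐ[k] A') :
    spMap (Algebra.TensorProduct.map (AlgHom.id k R) φ) ≫ (tensorIso R A).hom =
      (tensorIso R A').hom ≫ chartMap (spR R) (spMap φ) := by
  apply (isPullback_prd (spR R) (spR A)).hom_ext
  · rw [Category.assoc, Category.assoc, tensorIso_fst, chartMap₁, tensorIso_fst]
    ext : 1
    show Spec.map _ ≫ Spec.map _ = Spec.map _
    rw [← Spec.map_comp]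
    congr 1
    ext r
    exact (Algebra.TensorProduct.map_tmul _ _ r 1).trans (by simp)
  · rw [Category.assoc, Category.assoc, tensorIso_snd, chartMap₂, ← Category.assoc, tensorIso_snd]
    ext : 1
    show Spec.map _ ≫ Spec.map _ = Spec.map _ ≫ Spec.map _
    rw [← Spec.map_comp, ← Spec.map_comp]
    congr 1

theorem nilradical_prime_tensor {F : Type u} [Field F] [Algebra k F] (K : Type u) [Field K] [Algebra k K]
    [Subsingleton (PrimeSpectrum (F ⊗[k] K))] (A : Subalgebra k F) :
    (nilradical (K ⊗[k] A)).IsPrime := by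
  haveI : Nontrivial (F ⊗[k] K) := Algebra.TensorProduct.nontrivial_of_algebraMap_injective_of_isDomain k F K
    (algebraMap k F).injective (algebraMap k K).injective
  obtain ⟨P⟩ : Nonempty (PrimeSpectrum (F ⊗[k] K)) := inferInstance
  have hP : nilradical (F ⊗[k] K) = P.asIdeal := le_antisymm (nilradical_le_prime _) fun f hf =>
    mem_nilradical.2 (nilpotent_iff_mem_prime.2 fun J hJ => by
      have := Subsingleton.elim (⟨J, hJ⟩ : PrimeSpectrum (F ⊗[k] K)) P
      exact (congrArg PrimeSpectrum.asIdeal this).ge hf)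
  let ι : K ⊗[k] A →ₐ[k] F ⊗[k] K :=
    (Algebra.TensorProduct.comm k K F).toAlgHom.comp (Algebra.TensorProduct.map (AlgHom.id k K) A.val)
  have hι : Function.Injective ι := (Algebra.TensorProduct.comm k K F).injective.comp
    (Module.Flat.lTensor_preserves_injective_linearMap (M := K) A.val.toLinearMap Subtype.val_injective)
  have : nilradical (K ⊗[k] A) = (nilradical (F ⊗[k] K)).comap ι := by
    ext a
    rw [Ideal.mem_comap, mem_nilradical, mem_nilradical, IsNilpotent.map_iff hι]
  rw [this, hP]
  haveI := P.isPrime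
  exact Ideal.IsPrime.comap _

/-- A function on a base change to a finite extension is invertible if it is so after a further extension. -/
theorem isUnit_of_isUnit_map {L k' K : Type u} [CommRing L] [Algebra k L] [Field K] [Algebra k K] [Field k']
    [Algebra k k'] (ι : k' →ₐ[k] K) (f : L ⊗[k] k')
    (h : IsUnit (Algebra.TensorProduct.map (AlgHom.id k L) ι f)) : IsUnit f := by
  letI : Algebra k' K := ι.toRingHom.toAlgebra
  haveI : IsScalarTower k k' K := IsScalarTower.of_algebraMap_eq fun c => (ι.commutes c).symm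
  obtain ⟨r, hr⟩ := (Algebra.linearMap k' K).exists_leftInverse_of_injective
    (LinearMap.ker_eq_bot.2 (algebraMap k' K).injective)
  let R : L ⊗[k] K →ₗ[k] L ⊗[k] k' := LinearMap.lTensor L (r.restrictScalars k)
  have key : ∀ (a : L ⊗[k] k') (b : L ⊗[k] K),
      R (Algebra.TensorProduct.map (AlgHom.id k L) ι a * b) = a * R b := by
    intro a b
    induction a using TensorProduct.induction_on with
    | zero => simp
    | add x y hx hy => simp only [map_add, add_mul, hx, hy]
    | tmul l c =>
      induction b using TensorProduct.induction_on with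
      | zero => simp
      | add x y hx hy => simp only [map_add, mul_add, hx, hy]
      | tmul l' y =>
        have hc : r (ι c * y) = c * r y := r.map_smul c y
        simp [R, hc]
  have h1 : r 1 = 1 := by simpa using LinearMap.congr_fun hr 1
  obtain ⟨b, hb⟩ := h.exists_right_inv
  refine IsUnit.of_mul_eq_one (R b) ?_
  rw [← key, hb]
  simp [R, Algebra.TensorProduct.one_def, h1]

theorem isPullback_prod_map_fst {X Q : Sp (base k)} (i : Q ⟶ X) (V : Sp (base k)) :
    IsPullback (prod.fst : Q ⨯ V ⟶ Q) (prod.map i (𝟙 V)) i prod.fst :=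
  ⟨⟨(prod.map_fst _ _).symm⟩, ⟨PullbackCone.IsLimit.mk _ (fun s => prod.lift s.fst (s.snd ≫ prod.snd))
    (fun s => by simp)
    (fun s => by apply Limits.prod.hom_ext <;> simp [s.condition])
    (fun s m h1 h2 => by
      apply Limits.prod.hom_ext
      · simpa using h1
      · simpa using h2 =≫ prod.snd)⟩⟩

/-- An affine open containing a point of `X × Spec F` is defined over a finitely generated algebra. -/
theorem exists_spread_of_mem {F : Type u} [Field F] [Algebra k F] {X : Sp (base k)} (hX : IsAlgSpace X)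
    (hs : IsSeparatedSp X) {W : Over (base k)} [IsAffine W.left]
    (j : (yon (base k)).obj W ⟶ X ⨯ (yon (base k)).obj (sp k F)) (hj : RepWith @IsOpenImmersion j)
    {z : Points (X ⨯ (yon (base k)).obj (sp k F))} (hz : z ∈ Set.range (Points.map j)) :
    ∃ (A : Subalgebra k F) (_ : A.FG) (W' : Over (base k))
      (J : (yon (base k)).obj W' ⟶ X ⨯ (yon (base k)).obj (spA F A)),
      IsAffine W'.left ∧ RepWith @IsOpenImmersion J ∧
        Points.map (prod.map (𝟙 X) ((yon (base k)).map (inclA F A))) z ∈ Set.range (Points.map J) := by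
  have hC : IsCompact (Set.range fun w : ↥W.left => Points.ofPt (j ≫ prod.fst) w) :=
    isCompact_range (Points.continuous_ofPt _)
  obtain ⟨O, hO, hOc, hCO, -⟩ := exists_qc_open_between hX hC isOpen_univ (Set.subset_univ _)
  obtain ⟨Y, iY, hY, hiY, hrange, hYqc⟩ := exists_qc_subspace hX hO hOc
  haveI := mono_of_openImm hiY
  have hYqs : IsQuasiSeparatedSp Y := isQuasiSeparatedSp_of_mono iY (isQuasiSeparatedSp_of_isSeparatedSp hs)
  let qi : Y ⨯ (yon (base k)).obj (sp k F) ⟶ X ⨯ (yon (base k)).obj (sp k F) := prod.map iY (𝟙 _)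
  have sqi := isPullback_prod_map_fst iY ((yon (base k)).obj (sp k F))
  have hqi : RepWith @IsOpenImmersion qi := repWith_of_isPullback sqi hiY
  obtain ⟨l, hl⟩ := exists_factor_open_sp (IsAlgSpace.yon_obj W) hqi j fun p => by
    obtain ⟨w, rfl⟩ := (Points.schemeHomeo W).surjective p
    obtain ⟨y, hy⟩ : Points.ofPt (j ≫ prod.fst) w ∈ Set.range (Points.map iY) := hrange ▸ hCO ⟨w, rfl⟩
    obtain ⟨q, -, hq⟩ := exists_point_of_isPullback sqi (x := y) (y := Points.map j (Points.ofScheme W w)) (by
      rw [hy, ← Points.map_comp, ← Points.ofPt_eq_map_ofScheme])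
    exact ⟨q, hq⟩
  haveI := mono_of_openImm hqi
  have hlo : RepWith @IsOpenImmersion l := repWith_of_comp_mono l qi (hl.symm ▸ hj)
  obtain ⟨A, hA, W', j', hW', hj', htr⟩ := exists_spread hY hYqc hYqs l hlo
  refine ⟨A, hA, W', j' ≫ prod.map iY (𝟙 _), hW', repWith_comp hj'
    (repWith_of_isPullback (isPullback_prod_map_fst iY _) hiY), ?_⟩
  obtain ⟨p, rfl⟩ := hz
  obtain ⟨q, hq⟩ := htr _ ⟨p, rfl⟩
  refine ⟨q, ?_⟩
  rw [Points.map_comp, hq, ← hl, Points.map_comp l qi, ← Points.map_comp, ← Points.map_comp]
  rw [← Points.map_comp, ← Points.map_comp]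
  refine congrArg (fun g => Points.map g p) ?_
  simp only [qi, prod.map_map, Category.id_comp, Category.comp_id]

/-- A point in the image of an affine open of `X × Spec A` has a scheme neighbourhood if `A` is geometrically
irreducible. -/
theorem exists_open_scheme_of_affine {X : Sp (base k)} (hX : IsAlgSpace X) {A : Type u} [CommRing A] [Algebra k A]
    [Algebra.FiniteType k A] (K : Type u) [Field K] [Algebra k K] [IsAlgClosed K] [Algebra.IsAlgebraic k K]
    (hA : (nilradical (K ⊗[k] A)).IsPrime) {L : Type u} [Field L] [Algebra k L]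
    (x : (yon (base k)).obj (sp k L) ⟶ X) (pt : ↥(sp k L).left) {W : Over (base k)} [IsAffine W.left]
    (J : (yon (base k)).obj W ⟶ X ⨯ (yon (base k)).obj (spR A)) (hJ : RepWith @IsOpenImmersion J)
    {zA : Points (X ⨯ (yon (base k)).obj (spR A))} (hzA : zA ∈ Set.range (Points.map J))
    (hzx : Points.map prod.fst zA = Points.ofPt x pt) :
    ∃ (T : Over (base k)) (i : (yon (base k)).obj T ⟶ X),
      RepWith @IsOpenImmersion i ∧ Points.ofPt x pt ∈ Set.range (Points.map i) := by
  obtain ⟨w, -, hw⟩ := FieldBC.exists_lift x (spR A) pt zA hzx.symm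
  let e := tensorIso (k := k) L A
  let qA := (yon (base k)).map e.hom ≫ chart x (spR A)
  let O : Set (PrimeSpectrum (L ⊗[k] A)) := (fun Q => Points.ofPt qA Q) ⁻¹' Set.range (Points.map J)
  have hO : IsOpen O :=
    (isOpenEmbedding_map' (isAlgSpace_prod hX (IsAlgSpace.yon_obj _)) hJ).isOpen_range.preimage
      (Points.continuous_ofPt qA)
  have hP₀ : (e.inv.left w : PrimeSpectrum (L ⊗[k] A)) ∈ O := by
    show Points.ofPt qA (e.inv.left w) ∈ Set.range (Points.map J)
    rw [ofPt_comp, ← Scheme.Hom.comp_apply, ← Over.comp_left, e.inv_hom_id]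
    show Points.ofPt (chart x (spR A)) w ∈ _
    rwa [hw]
  obtain ⟨_, ⟨f, rfl⟩, hPf, hfO⟩ := PrimeSpectrum.isTopologicalBasis_basic_opens.exists_subset_of_mem_open hP₀ hO
  obtain ⟨φ, hu⟩ := exists_point_isUnit (K := K) hA f fun h =>
    (PrimeSpectrum.mem_basicOpen _ _).1 hPf ((PrimeSpectrum.isPrime _).mem_of_pow_mem h.choose
      (h.choose_spec.symm ▸ Ideal.zero_mem _))
  obtain ⟨s, hs⟩ := (Algebra.FiniteType.out : (⊤ : Subalgebra k A).FG)
  let k' : IntermediateField k K := IntermediateField.adjoin k (φ '' (s : Set A))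
  haveI : Finite ↥(φ '' (s : Set A)) := (s.finite_toSet.image φ).to_subtype
  haveI : FiniteDimensional k k' :=
    IntermediateField.finiteDimensional_adjoin fun y _ => Algebra.IsIntegral.isIntegral y
  have hmem : ∀ a, φ a ∈ k'.toSubalgebra := fun a => IntermediateField.algebra_adjoin_le_adjoin k _ (by
    rw [Algebra.adjoin_image, hs]
    exact ⟨a, Algebra.mem_top, rfl⟩)
  let φ' : A →ₐ[k] k' := φ.codRestrict k'.toSubalgebra hmem
  let ψ := Algebra.TensorProduct.map (AlgHom.id k L) φ'
  have hunit : IsUnit (ψ f) := isUnit_of_isUnit_map k'.val _ (by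
    rw [show φ = k'.val.comp φ' from AlgHom.ext fun _ => rfl,
      show Algebra.TensorProduct.map (AlgHom.id k L) (k'.val.comp φ') =
        (Algebra.TensorProduct.map (AlgHom.id k L) k'.val).comp ψ from
        Algebra.TensorProduct.ext' fun _ _ => by simp [ψ]] at hu
    exact hu)
  haveI : IsAffine (spR (k := k) A).left := isAffine_Spec _
  haveI : IsAffine (spR (k := k) k').left := isAffine_Spec _
  obtain ⟨W', i, fst, sq, hW'⟩ := isAffineMor_prod_map X (spMap φ') ‹IsAffine W.left› J
  haveI := hW'
  refine exists_open_scheme_of_finite k' hX _ fst (repWith_of_isPullback sq.flip hJ) fun z hz => ?_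
  obtain ⟨w', -, hw'⟩ := FieldBC.exists_lift x (spR k') pt z hz.symm
  let P : PrimeSpectrum (L ⊗[k] k') := (tensorIso L k').inv.left w'
  have hQ : PrimeSpectrum.comap ψ.toRingHom P ∈ O := hfO ((PrimeSpectrum.mem_basicOpen _ _).2 fun h =>
    P.isPrime.ne_top (Ideal.eq_top_of_isUnit_mem _ h hunit))
  have hgz : Points.ofPt qA ((spMap ψ).left ((tensorIso L k').inv.left w')) =
      Points.map (prod.map (𝟙 X) ((yon (base k)).map (spMap φ'))) z := by
    rw [← hw', map_map_ofPt, ofPt_comp, ← Scheme.Hom.comp_apply, ← Scheme.Hom.comp_apply, ← Over.comp_left,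
      ← Over.comp_left, tensorIso_natural, Iso.inv_hom_id_assoc]
  obtain ⟨y, hy⟩ : Points.map (prod.map (𝟙 X) ((yon (base k)).map (spMap φ'))) z ∈ Set.range (Points.map J) :=
    hgz ▸ hQ
  obtain ⟨q, hq, -⟩ := exists_point_of_isPullback sq hy.symm
  exact ⟨q, hq⟩

variable (G : Over ((yon (base k)).obj (Over.mk (𝟙 (base k))))) [GrpObj G]

/-- Every point of a separated group space over a field has a scheme neighbourhood. -/
theorem exists_open_scheme (hX : IsAlgSpace G.left) (hs : IsSeparatedSp G.left) {L : Type u} [Field L]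
    [Algebra k L] (x : (yon (base k)).obj (sp k L) ⟶ G.left) (pt : ↥(sp k L).left) :
    ∃ (T : Over (base k)) (i : (yon (base k)).obj T ⟶ G.left),
      RepWith @IsOpenImmersion i ∧ Points.ofPt x pt ∈ Set.range (Points.map i) := by
  obtain ⟨T, j, v, hj, h0, hv, hsub⟩ := exists_geomIrr_point G (AlgebraicClosure k) hX hs
  haveI : Flat (sp k L).hom :=
    (HasRingHomProperty.Spec_iff (P := @Flat)).2 (RingHom.flat_algebraMap_iff.2 inferInstance)
  obtain ⟨w, v', hv'⟩ := exists_generic_mem G hX hj h0 hv pt x
  let F : Type u := ↥(T.left.residueField v)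
  letI : Algebra k F := (Spec.preimage (T.left.fromSpecResidueField v ≫ T.hom)).hom.toAlgebra
  have e0 : Spec.map (CommRingCat.ofHom (algebraMap k F)) = T.left.fromSpecResidueField v ≫ T.hom :=
    Spec.map_preimage _
  haveI : Subsingleton ↥(pullback (T.left.fromSpecResidueField v ≫ T.hom)
      (Spec.map (CommRingCat.ofHom (algebraMap k (AlgebraicClosure k))))) := hsub
  haveI : Subsingleton (PrimeSpectrum (F ⊗[k] AlgebraicClosure k)) :=
    ((pullbackSpecIso k F (AlgebraicClosure k)).inv ≫
      (pullback.congrHom e0 rfl).hom).homeomorph.injective.subsingleton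
  let εF : sp k F ≅ resPt T v := Over.isoMk (Iso.refl _) (by
    show 𝟙 _ ≫ _ = _
    rw [Category.id_comp]
    exact e0.symm)
  let hF : (yon (base k)).obj (sp k F) ⟶ G.left :=
    (yon (base k)).map εF.hom ≫ (yon (base k)).map (resι T v) ≫ j
  obtain ⟨V, hV, hvV, -⟩ := exists_isAffineOpen_mem_and_subset (U := (⊤ : T.left.Opens)) (x := v')
    (TopologicalSpace.Opens.mem_top _)
  let Vo : Over (base k) := Over.mk (V.ι ≫ T.hom)
  let ιV : Vo ⟶ T := Over.homMk V.ι rfl
  haveI : IsAffine V.toScheme := hV
  haveI : IsAffine (sp k F).left := isAffine_Spec _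
  haveI : IsAffine (prd Vo (sp k F)).left :=
    inferInstanceAs (IsAffine (pullback (V.ι ≫ T.hom) (Spec.map (CommRingCat.ofHom (algebraMap k F)))))
  let a : (yon (base k)).obj Vo ⟶ G.left := (yon (base k)).map ιV ≫ j
  have ha : RepWith @IsOpenImmersion a :=
    repWith_comp ((repWith_yon_map_iff _ ιV).2 (inferInstanceAs (IsOpenImmersion V.ι))) hj
  let jW := chart a (sp k F) ≫ (translR G hF).inv
  have hjW : RepWith @IsOpenImmersion jW := repWith_comp (repWith_chart a _ ha) (repWith_of_isIso _ _)
  let q : (yon (base k)).obj (prd (resPt T v) (sp k L)) ⟶ G.left ⨯ (yon (base k)).obj (sp k F) :=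
    prod.lift ((yon (base k)).map (prd₂ (resPt T v) (sp k L)) ≫ x)
      ((yon (base k)).map (prd₁ (resPt T v) (sp k L) ≫ εF.inv))
  have hqt : q ≫ (translR G hF).hom ≫ prod.fst = prodPt G j v x := by
    rw [translR_hom_fst, comp_mulH, prod.lift_fst, prod.lift_snd_assoc, Functor.map_comp, Category.assoc,
      prodPt]
    simp only [hF, ← Functor.map_comp_assoc, Iso.inv_hom_id_assoc]
  obtain ⟨w', -, hw'⟩ := FieldBC.exists_lift a (sp k F) (⟨v', hvV⟩ : ↥V)
    (Points.map (translR G hF).hom (Points.ofPt q w)) (by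
      rw [← Points.map_comp, Points.map_ofPt, hqt, ofPt_comp]
      exact hv')
  have hz : Points.ofPt q w ∈ Set.range (Points.map jW) := ⟨Points.ofScheme _ w', by
    rw [← Points.ofPt_eq_map_ofScheme, ← Points.map_ofPt (chart a (sp k F)) (translR G hF).inv, hw',
      ← Points.map_comp, Iso.hom_inv_id, Points.map_id]⟩
  obtain ⟨A, hA, W', J, hW', hJ, hzA⟩ := exists_spread_of_mem hX hs jW hjW hz
  haveI := hW'
  haveI : Algebra.FiniteType k A := (Subalgebra.fg_iff_finiteType A).1 hA
  refine exists_open_scheme_of_affine hX (AlgebraicClosure k)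
    (nilradical_prime_tensor (F := F) _ A) x pt J hJ hzA ?_
  rw [← Points.map_comp, prod.map_fst, Category.comp_id, Points.map_ofPt, prod.lift_fst, ofPt_comp]
  congr 1
  exact Subsingleton.elim (α := PrimeSpectrum L) _ _

/-- A separated group space over a field is a scheme. -/
theorem isRepresentable (hX : IsAlgSpace G.left) (hs : IsSeparatedSp G.left) : G.left.obj.IsRepresentable := by
  obtain ⟨X', j, hj, hX', hmax⟩ := Groth.Agent.S10197.result (⟨G.left, hX⟩ : Space (base k))
  have hsurj : Function.Surjective (Points.map j.hom) := by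
    intro z
    induction z using Points.ind with
    | h p =>
    letI : Algebra k p.K := (Spec.preimage p.str).hom.toAlgebra
    have e0 : Spec.map (CommRingCat.ofHom (algebraMap k p.K)) = p.str := Spec.map_preimage _
    let ε : sp k p.K ⟶ p.pt := Over.homMk (𝟙 _) ((Category.id_comp _).trans e0.symm)
    obtain ⟨T, i, hi, z, hz⟩ := exists_open_scheme G hX hs ((yon (base k)).map ε ≫ p.toHom)
      (IsLocalRing.closedPoint p.K)
    rw [ofPt_comp, Points.ofPt_toHom] at hz
    obtain ⟨l, hl⟩ := hmax ⟨(yon (base k)).obj T, IsAlgSpace.yon_obj T⟩ (ObjectProperty.homMk i) hi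
      (isRepresentable_of_iso (Iso.refl _))
    refine ⟨Points.map l.hom z, ?_⟩
    rw [← Points.map_comp, ← hz]
    exact congrArg (fun g => Points.map g z) (congrArg (fun g => g.hom) hl)
  haveI := isIso_of_openImm_surjective hX hj hsurj
  obtain ⟨T, ⟨r⟩⟩ := hX'.has_representation
  exact isRepresentable_of_iso (isoOfRepresentableBy r ≪≫ asIso j.hom)

end Groth.Agent.GrpScheme13
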