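import Mathlib.RingTheory.EssentialFiniteness
import Mathlib.RingTheory.Localization.Submodule
import Mathlib.RingTheory.TensorProduct.Maps
import Mathlib.RingTheory.Jacobson.Ring
import Mathlib.RingTheory.Nullstellensatz
import Mathlib.RingTheory.TensorProduct.Basic
import Mathlib.RingTheory.Flat.Basic
import Mathlib.RingTheory.FiniteStability
import Mathlib.FieldTheory.IntermediateField.Adjoin.Basic
import Mathlib.FieldTheory.IsAlgClosed.AlgebraicClosure
import Mathlib.RingTheory.Ideal.MinimalPrime.Noetherian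
import Mathlib.LinearAlgebra.DirectSum.Finsupp

/-!
# Points of a geometrically irreducible affine variety at which a function is invertible
-/

set_option autoImplicit false
set_option linter.style.haveILetI false
set_option backward.isDefEq.respectTransparency false
set_option backward.isDefEq.respectTransparency.types false

universe u

open TensorProduct

namespace Groth.Agent.GrpScheme13

variable {k : Type u} [Field k] {E : Type u} [Field E] [Algebra k E] {A : Type u} [CommRing A] [Algebra k A]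

theorem exists_field_of_tensor (f : E ⊗[k] A) :
    ∃ (E₀ : IntermediateField k E) (_ : E₀.FG) (f₀ : E₀ ⊗[k] A),
      Algebra.TensorProduct.map E₀.val (AlgHom.id k A) f₀ = f := by
  induction f using TensorProduct.induction_on with
  | zero => exact ⟨⊥, IntermediateField.fg_bot, 0, map_zero _⟩
  | tmul e a =>
    exact ⟨IntermediateField.adjoin k {e}, IntermediateField.fg_adjoin_of_finite (Set.finite_singleton e),
      ⟨e, IntermediateField.mem_adjoin_simple_self k e⟩ ⊗ₜ a, by simp⟩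
  | add x y hx hy =>
    obtain ⟨F, hF, x₀, rfl⟩ := hx
    obtain ⟨G, hG, y₀, rfl⟩ := hy
    refine ⟨F ⊔ G, IntermediateField.fg_sup hF hG,
      Algebra.TensorProduct.map (IntermediateField.inclusion (le_sup_left : F ≤ F ⊔ G)) (AlgHom.id k A) x₀ +
      Algebra.TensorProduct.map (IntermediateField.inclusion (le_sup_right : G ≤ F ⊔ G)) (AlgHom.id k A) y₀, ?_⟩
    rw [map_add]
    congr 1
    · rw [← AlgHom.comp_apply, ← Algebra.TensorProduct.map_comp]; rfl
    · rw [← AlgHom.comp_apply, ← Algebra.TensorProduct.map_comp]; rfl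

variable {K : Type u} [Field K] [Algebra k K]

/-- Over an algebraically closed `K`, a nonzero function on `Ω × B` is nonzero on some `Ω × {point}`. -/
theorem exists_coord {Ω : Type u} [Field Ω] [Algebra K Ω] {B : Type u} [CommRing B] [Algebra K B]
    (g : Ω ⊗[K] B) (hg : g ≠ 0) :
    ∃ c : B, c ≠ 0 ∧ ∀ φ : B →ₐ[K] K, φ c ≠ 0 →
      Algebra.TensorProduct.lift (Algebra.ofId Ω Ω |>.restrictScalars K)
        ((Algebra.ofId K Ω).comp φ) (fun _ _ => Commute.all _ _) g ≠ 0 := by
  classical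
  let b := Module.Free.chooseBasis K Ω
  let c := TensorProduct.equivFinsuppOfBasisLeft (N := B) b g
  obtain ⟨i, hi⟩ : ∃ i, c i ≠ 0 := by
    by_contra h
    push Not at h
    exact hg ((TensorProduct.equivFinsuppOfBasisLeft (N := B) b).injective
      ((Finsupp.ext h : c = 0).trans (map_zero _).symm))
  refine ⟨c i, hi, fun φ hφ h0 => hφ ?_⟩
  let ev := Algebra.TensorProduct.lift (Algebra.ofId Ω Ω |>.restrictScalars K)
    ((Algebra.ofId K Ω).comp φ) (fun _ _ => Commute.all _ _)
  have key : ∀ z : Ω ⊗[K] B, b.repr (ev z) i = φ (TensorProduct.equivFinsuppOfBasisLeft (N := B) b z i) := by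
    intro z
    induction z using TensorProduct.induction_on with
    | zero => simp
    | tmul ω x =>
      have : ev (ω ⊗ₜ x) = φ x • ω := by simp [ev, Algebra.smul_def, mul_comm]
      rw [this]
      simp [mul_comm]
    | add x y hx hy => simp [hx, hy]
  have := key g
  rw [show ev g = 0 from h0, map_zero] at this
  exact this.symm

theorem finite_primes_of_integral {F C : Type u} [Field F] [CommRing C] [Algebra F C] [Algebra.IsIntegral F C]
    [IsNoetherianRing C] : {q : Ideal C | q.IsPrime}.Finite := by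
  have hmax : ∀ q : Ideal C, q.IsPrime → q.IsMaximal := by
    intro q hq
    have h1 : (q.comap (algebraMap F C)).IsMaximal := by
      rw [Ideal.eq_bot_of_prime (Ideal.comap (algebraMap F C) q)]
      exact Ideal.bot_isMaximal
    exact Ideal.isMaximal_of_isIntegral_of_isMaximal_comap q h1
  refine (minimalPrimes.finite_of_isNoetherianRing C).subset fun q hq => ?_
  have : q.IsPrime := hq
  obtain ⟨p, hp, hpq⟩ := Ideal.exists_minimalPrimes_le (bot_le : (⊥ : Ideal C) ≤ q)
  have := hmax p hp.1.1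
  exact (Ideal.IsMaximal.eq_of_le this (Ideal.IsPrime.ne_top hq) hpq) ▸ hp

/-- A coefficient whose nonvanishing makes `f` nonzero at a point of `Ω`. -/
theorem exists_coeff {F : Type u} [Field F] [Algebra k F] {Ω : Type u} [Field Ω] [Algebra k Ω] [Algebra K Ω]
    [IsScalarTower k K Ω] (i₀ : F →ₐ[k] Ω) (hA : (nilradical (K ⊗[k] A)).IsPrime) (f : F ⊗[k] A)
    (hf : ¬ IsNilpotent f) :
    ∃ c : (K ⊗[k] A) ⧸ nilradical (K ⊗[k] A), c ≠ 0 ∧
      ∀ φ : ((K ⊗[k] A) ⧸ nilradical (K ⊗[k] A)) →ₐ[K] K, φ c ≠ 0 →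
        Algebra.TensorProduct.lift i₀ ((IsScalarTower.toAlgHom k K Ω).comp
          (((φ.comp (Ideal.Quotient.mkₐ K _)).restrictScalars k).comp Algebra.TensorProduct.includeRight))
          (fun _ _ => Commute.all _ _) f ≠ 0 := by
  let ψ : F ⊗[k] A →ₐ[k] Ω ⊗[k] A := Algebra.TensorProduct.map i₀ (AlgHom.id k A)
  have hψ : Function.Injective ψ :=
    Module.Flat.rTensor_preserves_injective_linearMap (M := A) i₀.toLinearMap i₀.toRingHom.injective
  let e : Ω ⊗[K] (K ⊗[k] A) ≃ₐ[Ω] Ω ⊗[k] A := Algebra.TensorProduct.cancelBaseChange k K Ω Ω A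
  let h : Ω ⊗[K] (K ⊗[k] A) →ₐ[K] Ω ⊗[K] ((K ⊗[k] A) ⧸ nilradical (K ⊗[k] A)) :=
    Algebra.TensorProduct.map (AlgHom.id K Ω) (Ideal.Quotient.mkₐ K _)
  have hg : h (e.symm (ψ f)) ≠ 0 := by
    intro h0
    refine hf ((IsNilpotent.map_iff (f := ψ) hψ).1 ?_)
    refine (IsNilpotent.map_iff (f := e.symm) e.symm.injective).1 ?_
    have hmem : e.symm (ψ f) ∈ RingHom.ker h := h0
    rw [Algebra.TensorProduct.lTensor_ker _ Ideal.Quotient.mk_surjective] at hmem
    refine mem_nilradical.1 (Ideal.map_le_iff_le_comap.2 (fun x hx => ?_) hmem)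
    have hx' : x ∈ nilradical (K ⊗[k] A) := by
      simpa [Ideal.Quotient.eq_zero_iff_mem] using hx
    exact mem_nilradical.2 ((mem_nilradical.1 hx').map _)
  obtain ⟨c, hc0, hc⟩ := exists_coord _ hg
  refine ⟨c, hc0, fun φ hφ h0 => hc φ hφ ?_⟩
  rw [← h0]
  clear hg hc h0 hf
  induction f using TensorProduct.induction_on with
  | zero => simp
  | tmul x a => simp [ψ, h, e, Ideal.Quotient.mkₐ_eq_mk, Algebra.ofId_apply]
  | add x y hx hy => simp only [map_add, hx, hy]

/-- The case of a finitely generated field. -/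
theorem exists_point_isUnit_field [IsAlgClosed K] [Algebra.IsAlgebraic k K] [Algebra.FiniteType k A]
    (hA : (nilradical (K ⊗[k] A)).IsPrime) {F : Type u} [Field F] [Algebra k F] [Algebra.EssFiniteType k F]
    (f₀ : F ⊗[k] A) (hf₀ : ¬ IsNilpotent f₀) :
    ∃ φ : A →ₐ[k] K, IsUnit (Algebra.TensorProduct.map (AlgHom.id k F) φ f₀) := by
  have : IsNoetherianRing (K ⊗[k] F) := Algebra.EssFiniteType.isNoetherianRing K (K ⊗[k] F)
  have : IsNoetherianRing (F ⊗[k] K) :=
    isNoetherianRing_of_ringEquiv _ (Algebra.TensorProduct.comm k K F).toRingEquiv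
  have hfin := finite_primes_of_integral (F := F) (C := F ⊗[k] K)
  have hc : ∀ q : {q : Ideal (F ⊗[k] K) // q.IsPrime},
      ∃ c : (K ⊗[k] A) ⧸ nilradical (K ⊗[k] A), c ≠ 0 ∧
      ∀ φ : ((K ⊗[k] A) ⧸ nilradical (K ⊗[k] A)) →ₐ[K] K, φ c ≠ 0 →
      Algebra.TensorProduct.map (AlgHom.id k F)
        (((φ.comp (Ideal.Quotient.mkₐ K _)).restrictScalars k).comp Algebra.TensorProduct.includeRight) f₀ ∉ q.1 := by
    rintro ⟨q, hq⟩
    let Ω := FractionRing ((F ⊗[k] K) ⧸ q)
    let π : F ⊗[k] K →ₐ[k] Ω := (IsScalarTower.toAlgHom k ((F ⊗[k] K) ⧸ q) Ω).comp (Ideal.Quotient.mkₐ k q)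
    letI : Algebra K Ω := (π.comp Algebra.TensorProduct.includeRight).toRingHom.toAlgebra
    have : IsScalarTower k K Ω := IsScalarTower.of_algebraMap_eq fun r =>
      ((π.comp Algebra.TensorProduct.includeRight).commutes r).symm
    obtain ⟨c, hc0, hc⟩ := exists_coeff (π.comp Algebra.TensorProduct.includeLeft) hA f₀ hf₀
    refine ⟨c, hc0, fun φ hφ hmem => hc φ hφ ?_⟩
    let φ' : A →ₐ[k] K :=
      ((φ.comp (Ideal.Quotient.mkₐ K _)).restrictScalars k).comp Algebra.TensorProduct.includeRight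
    have heq : Algebra.TensorProduct.lift (π.comp Algebra.TensorProduct.includeLeft)
        ((IsScalarTower.toAlgHom k K Ω).comp φ') (fun _ _ => Commute.all _ _) =
        π.comp (Algebra.TensorProduct.map (AlgHom.id k F) φ') := by
      refine Algebra.TensorProduct.ext' fun x a => ?_
      simp only [Algebra.TensorProduct.lift_tmul, AlgHom.comp_apply, Algebra.TensorProduct.map_tmul]
      show π (x ⊗ₜ 1) * π (1 ⊗ₜ φ' a) = π (x ⊗ₜ φ' a)
      rw [← map_mul, Algebra.TensorProduct.tmul_mul_tmul, mul_one, one_mul]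
    refine (DFunLike.congr_fun heq f₀).trans ?_
    show algebraMap _ Ω (Ideal.Quotient.mk q _) = 0
    exact (congrArg (algebraMap _ Ω) (Ideal.Quotient.eq_zero_iff_mem.2 hmem)).trans (map_zero _)
  choose c hc0 hc using hc
  have : Finite {q : Ideal (F ⊗[k] K) // q.IsPrime} := hfin.to_subtype
  cases nonempty_fintype {q : Ideal (F ⊗[k] K) // q.IsPrime}
  have := hA
  have hP : ∏ q, c q ≠ 0 := Finset.prod_ne_zero_iff.2 fun q _ => hc0 q
  have : Algebra.FiniteType K (K ⊗[k] A) := inferInstance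
  have hB : Algebra.FiniteType K ((K ⊗[k] A) ⧸ nilradical (K ⊗[k] A)) :=
    Algebra.FiniteType.trans (S := K ⊗[k] A) inferInstance inferInstance
  have : IsJacobsonRing ((K ⊗[k] A) ⧸ nilradical (K ⊗[k] A)) := isJacobsonRing_of_finiteType (A := K)
  obtain ⟨m, hm, hPm⟩ : ∃ m : Ideal ((K ⊗[k] A) ⧸ nilradical (K ⊗[k] A)), m.IsMaximal ∧ ∏ q, c q ∉ m := by
    by_contra h
    push Not at h
    refine hP ((Ideal.mem_bot).1 ?_)
    rw [← IsJacobsonRing.out (R := (K ⊗[k] A) ⧸ nilradical (K ⊗[k] A)) inferInstance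
      (Ideal.isPrime_bot.isRadical)]
    exact Ideal.mem_sInf.2 fun m hm => h m hm.2
  letI : Field (((K ⊗[k] A) ⧸ nilradical (K ⊗[k] A)) ⧸ m) := Ideal.Quotient.field m
  have : Module.Finite K (((K ⊗[k] A) ⧸ nilradical (K ⊗[k] A)) ⧸ m) :=
    finite_of_finite_type_of_isJacobsonRing K _
  let ev := (AlgEquiv.ofBijective (Algebra.ofId K (((K ⊗[k] A) ⧸ nilradical (K ⊗[k] A)) ⧸ m))
    IsAlgClosed.algebraMap_bijective_of_isIntegral).symm
  let φ := ev.toAlgHom.comp (Ideal.Quotient.mkₐ K m)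
  have hφ : ∀ q, φ (c q) ≠ 0 := fun q h0 => hPm (Ideal.mem_of_dvd _ (Finset.dvd_prod_of_mem c (Finset.mem_univ q))
    (Ideal.Quotient.eq_zero_iff_mem.1 ((EmbeddingLike.map_eq_zero_iff (f := ev)).1 h0)))
  let φ' : A →ₐ[k] K :=
    ((φ.comp (Ideal.Quotient.mkₐ K _)).restrictScalars k).comp Algebra.TensorProduct.includeRight
  refine ⟨φ', ?_⟩
  have hu : IsUnit (Algebra.TensorProduct.map (AlgHom.id k F) φ' f₀) := by
    by_contra hu
    obtain ⟨q, hq, hmem⟩ := exists_max_ideal_of_mem_nonunits hu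
    exact hc ⟨q, hq.isPrime⟩ φ (hφ _) hmem
  exact hu

/-- The function `f` is invertible on `E × {a}` for some geometric point `a`. -/
theorem exists_point_isUnit [IsAlgClosed K] [Algebra.IsAlgebraic k K] [Algebra.FiniteType k A]
    (hA : (nilradical (K ⊗[k] A)).IsPrime) (f : E ⊗[k] A) (hf : ¬ IsNilpotent f) :
    ∃ φ : A →ₐ[k] K, IsUnit (Algebra.TensorProduct.map (AlgHom.id k E) φ f) := by
  obtain ⟨E₀, hE₀, f₀, rfl⟩ := exists_field_of_tensor f
  have : Algebra.EssFiniteType k E₀ := IntermediateField.essFiniteType_iff.2 hE₀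
  obtain ⟨φ', hu⟩ := exists_point_isUnit_field (F := E₀) hA f₀ fun h => hf (h.map _)
  refine ⟨φ', ?_⟩
  have : (Algebra.TensorProduct.map (AlgHom.id k E) φ').comp (Algebra.TensorProduct.map E₀.val (AlgHom.id k A)) =
      (Algebra.TensorProduct.map E₀.val (AlgHom.id k K)).comp (Algebra.TensorProduct.map (AlgHom.id k E₀) φ') := by
    refine Algebra.TensorProduct.ext' fun x a => ?_
    simp
  rw [← AlgHom.comp_apply, this, AlgHom.comp_apply]
  exact hu.map _

end Groth.Agent.GrpScheme13
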