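import Groth.Agent.AlgSpDec.GrpGroupoid
import Groth.Agent.AlgSpPts.Descent

/-!
# Generalised elements of a group object over the base and translations
-/

set_option autoImplicit false
set_option backward.isDefEq.respectTransparency false
set_option backward.isDefEq.respectTransparency.types false

universe u

open CategoryTheory CategoryTheory.Limits AlgebraicGeometry MonoidalCategory MonObj AlgSp Groth.Agent.AlgSpLib
  Groth.Agent.AlgSpPts Groth.Agent.AlgSpDec.GrpGroupoid

namespace Groth.Agent.GrpScheme13

variable {S : Scheme.{u}} (G : Over ((yon S).obj (Over.mk (𝟙 S)))) [GrpObj G]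

/-- A map to the group as an element over the base. -/
noncomputable abbrev elt {T : Sp S} (α : T ⟶ G.left) : Over.mk ((isTerminalYon S).from T) ⟶ G :=
  el' G α ((isTerminalYon S).hom_ext _ _)

/-- The product of two maps. -/
noncomputable def mulH {T : Sp S} (α β : T ⟶ G.left) : T ⟶ G.left := (elt G α * elt G β).left

/-- The inverse of a map. -/
noncomputable def invH {T : Sp S} (α : T ⟶ G.left) : T ⟶ G.left := (elt G α)⁻¹.left

/-- The unit map. -/
noncomputable def oneH (T : Sp S) : T ⟶ G.left := (1 : Over.mk ((isTerminalYon S).from T) ⟶ G).left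

theorem elt_mulH {T : Sp S} (α β : T ⟶ G.left) : elt G (mulH G α β) = elt G α * elt G β :=
  Over.OverMorphism.ext rfl

theorem elt_invH {T : Sp S} (α : T ⟶ G.left) : elt G (invH G α) = (elt G α)⁻¹ := Over.OverMorphism.ext rfl

theorem elt_oneH (T : Sp S) : elt G (oneH G T) = 1 := Over.OverMorphism.ext rfl

theorem elt_injective {T : Sp S} {α β : T ⟶ G.left} (h : elt G α = elt G β) : α = β :=
  congrArg (fun e : Over.mk ((isTerminalYon S).from T) ⟶ G => e.left) h

theorem mulH_assoc {T : Sp S} (α β γ : T ⟶ G.left) : mulH G (mulH G α β) γ = mulH G α (mulH G β γ) :=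
  elt_injective G (by rw [elt_mulH, elt_mulH, elt_mulH, elt_mulH, _root_.mul_assoc])

theorem invH_mulH_cancel {T : Sp S} (α β : T ⟶ G.left) : mulH G (invH G α) (mulH G α β) = β :=
  elt_injective G (by rw [elt_mulH, elt_mulH, elt_invH, inv_mul_cancel_left])

theorem mulH_invH_cancel {T : Sp S} (α β : T ⟶ G.left) : mulH G α (mulH G (invH G α) β) = β :=
  elt_injective G (by rw [elt_mulH, elt_mulH, elt_invH, mul_inv_cancel_left])

theorem mulH_invH_cancel_right {T : Sp S} (α β : T ⟶ G.left) : mulH G (mulH G α β) (invH G β) = α :=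
  elt_injective G (by rw [elt_mulH, elt_mulH, elt_invH, mul_inv_cancel_right])

theorem mulH_invH_cancel_right' {T : Sp S} (α β : T ⟶ G.left) : mulH G (mulH G α (invH G β)) β = α :=
  elt_injective G (by rw [elt_mulH, elt_mulH, elt_invH, inv_mul_cancel_right])

theorem oneH_mulH {T : Sp S} (α : T ⟶ G.left) : mulH G (oneH G T) α = α :=
  elt_injective G (by rw [elt_mulH, elt_oneH, _root_.one_mul])

theorem mulH_oneH {T : Sp S} (α : T ⟶ G.left) : mulH G α (oneH G T) = α :=
  elt_injective G (by rw [elt_mulH, elt_oneH, _root_.mul_one])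

theorem comp_mulH {T T' : Sp S} (g : T' ⟶ T) (α β : T ⟶ G.left) :
    g ≫ mulH G α β = mulH G (g ≫ α) (g ≫ β) := by
  let g' : Over.mk ((isTerminalYon S).from T') ⟶ Over.mk ((isTerminalYon S).from T) :=
    Over.homMk g ((isTerminalYon S).hom_ext _ _)
  have h : g' ≫ (elt G α * elt G β) = elt G (g ≫ α) * elt G (g ≫ β) := by
    rw [MonObj.comp_mul]
    congr 1
  exact congrArg (fun e : Over.mk ((isTerminalYon S).from T') ⟶ G => e.left) h

theorem comp_oneH {T T' : Sp S} (g : T' ⟶ T) : g ≫ oneH G T = oneH G T' := by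
  rw [oneH, oneH, one_left, one_left]
  exact (Category.assoc _ _ _).symm.trans (congrArg (· ≫ _) ((isTerminalYon S).hom_ext _ _))

theorem comp_invH {T T' : Sp S} (g : T' ⟶ T) (α : T ⟶ G.left) : g ≫ invH G α = invH G (g ≫ α) := by
  apply elt_injective G
  rw [elt_invH]
  refine eq_inv_of_mul_eq_one_left ?_
  rw [← elt_mulH, ← elt_oneH, ← comp_mulH, ← comp_oneH G g]
  refine congrArg (elt G) (congrArg (g ≫ ·) (elt_injective G ?_))
  rw [elt_mulH, elt_invH, inv_mul_cancel, elt_oneH]

/-- Left translation of `G × V` by a `V`-point. -/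
noncomputable def translL {V : Sp S} (x : V ⟶ G.left) : G.left ⨯ V ≅ G.left ⨯ V where
  hom := prod.lift (mulH G (prod.snd ≫ x) prod.fst) prod.snd
  inv := prod.lift (mulH G (invH G (prod.snd ≫ x)) prod.fst) prod.snd
  hom_inv_id := by
    apply Limits.prod.hom_ext
    · rw [Category.assoc, prod.lift_fst, comp_mulH, prod.lift_fst, comp_invH, prod.lift_snd_assoc,
        invH_mulH_cancel, Category.id_comp]
    · rw [Category.assoc, prod.lift_snd, prod.lift_snd, Category.id_comp]
  inv_hom_id := by
    apply Limits.prod.hom_ext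
    · rw [Category.assoc, prod.lift_fst, comp_mulH, prod.lift_fst, prod.lift_snd_assoc, mulH_invH_cancel,
        Category.id_comp]
    · rw [Category.assoc, prod.lift_snd, prod.lift_snd, Category.id_comp]

/-- Right translation of `G × V` by a `V`-point. -/
noncomputable def translR {V : Sp S} (x : V ⟶ G.left) : G.left ⨯ V ≅ G.left ⨯ V where
  hom := prod.lift (mulH G prod.fst (prod.snd ≫ x)) prod.snd
  inv := prod.lift (mulH G prod.fst (invH G (prod.snd ≫ x))) prod.snd
  hom_inv_id := by
    apply Limits.prod.hom_ext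
    · rw [Category.assoc, prod.lift_fst, comp_mulH, prod.lift_fst, comp_invH, prod.lift_snd_assoc,
        mulH_invH_cancel_right, Category.id_comp]
    · rw [Category.assoc, prod.lift_snd, prod.lift_snd, Category.id_comp]
  inv_hom_id := by
    apply Limits.prod.hom_ext
    · rw [Category.assoc, prod.lift_fst, comp_mulH, prod.lift_fst, prod.lift_snd_assoc, mulH_invH_cancel_right',
        Category.id_comp]
    · rw [Category.assoc, prod.lift_snd, prod.lift_snd, Category.id_comp]

theorem translL_hom_fst {V : Sp S} (x : V ⟶ G.left) :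
    (translL G x).hom ≫ prod.fst = mulH G (prod.snd ≫ x) prod.fst := prod.lift_fst _ _

theorem translR_hom_fst {V : Sp S} (x : V ⟶ G.left) :
    (translR G x).hom ≫ prod.fst = mulH G prod.fst (prod.snd ≫ x) := prod.lift_fst _ _

theorem translR_hom_snd {V : Sp S} (x : V ⟶ G.left) : (translR G x).hom ≫ prod.snd = prod.snd :=
  prod.lift_snd _ _

end Groth.Agent.GrpScheme13
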